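import Cfsg.Agent.Lib.CharCorr.Basic
import Cfsg.Agent.Lib.Characters.Induction

/-!
Summation lemmas for the characters of finite groups: pullbacks, products, idempotents of subgroups,
sums over double cosets.
-/

set_option autoImplicit false
set_option linter.unusedSectionVars false

namespace CfsgLib.GLCusp

open Cfsg CfsgLib.Characters Finset
open scoped ComplexConjugate

variable {G H : Type*} [Group G] [Group H] [Fintype G] [Fintype H]

theorem sum_pullback {φ : G →* H} (hφ : Function.Surjective φ) (f : H → ℂ) :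
    (Nat.card H : ℂ) * ∑ g : G, f (φ g) = (Nat.card G : ℂ) * ∑ h : H, f h := by
  classical
  have hcard : ∀ h : H, Nat.card {g : G // φ g = h} = Nat.card φ.ker := fun h => by
    obtain ⟨g₀, rfl⟩ := hφ h
    exact Nat.card_congr
      { toFun := fun g => ⟨g₀⁻¹ * g.1, by simp [MonoidHom.mem_ker, g.2]⟩
        invFun := fun k => ⟨g₀ * k.1, by simp [MonoidHom.mem_ker.mp k.2]⟩
        left_inv := fun g => by simp
        right_inv := fun k => by simp }
  have hG : Nat.card G = Nat.card H * Nat.card φ.ker := by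
    rw [← Nat.card_congr (Equiv.sigmaFiberEquiv φ), Nat.card_sigma]
    rw [Finset.sum_congr rfl fun h _ => hcard h, Finset.sum_const, Finset.card_univ, smul_eq_mul,
      Nat.card_eq_fintype_card (α := H)]
  have hsum : ∑ g : G, f (φ g) = (Nat.card φ.ker : ℂ) * ∑ h : H, f h := by
    rw [← Finset.sum_fiberwise Finset.univ φ, Finset.mul_sum]
    refine Finset.sum_congr rfl fun h _ => ?_
    rw [Finset.sum_congr rfl (g := fun _ => f h) (fun g hg => by rw [(Finset.mem_filter.mp hg).2]),
      Finset.sum_const, nsmul_eq_mul]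
    congr 2
    rw [← hcard h, Nat.card_eq_fintype_card, Fintype.card_subtype]
  rw [hsum, hG]
  push_cast
  ring

theorem classInner_pullback {φ : G →* H} (hφ : Function.Surjective φ) (f f' : H → ℂ) :
    classInner (f ∘ φ) (f' ∘ φ) = classInner f f' := by
  simp only [classInner, Function.comp_apply]
  have h := sum_pullback hφ fun h => f h * conj (f' h)
  have h1 : (Nat.card G : ℂ) ≠ 0 := by simp
  have h2 : (Nat.card H : ℂ) ≠ 0 := by simp
  field_simp
  linear_combination h

theorem classInner_prod {ι : Type*} [Fintype ι] [DecidableEq ι] {A : ι → Type*} [∀ i, Group (A i)]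
    [∀ i, Fintype (A i)] (f f' : ∀ i, A i → ℂ) :
    classInner (fun y : ∀ i, A i => ∏ i, f i (y i)) (fun y => ∏ i, f' i (y i)) =
      ∏ i, classInner (f i) (f' i) := by
  simp only [classInner, Nat.card_pi, Nat.cast_prod, ← Finset.prod_inv_distrib, map_prod,
    ← Finset.prod_mul_distrib]
  rw [Finset.prod_mul_distrib, Fintype.prod_sum]

/-- If the sum of a character over a subgroup vanishes, so does its sum over every coset. -/
theorem sum_coset_eq_zero {χ : G → ℂ} (hχ : IsCharacter G χ) (K : Subgroup G) [Fintype K]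
    (h : ∑ u : K, χ (u : G) = 0) (x : G) : ∑ u : K, χ (x * u) = 0 := by
  obtain ⟨n, ρ, rfl⟩ := hχ
  set T : Module.End ℂ (Fin n → ℂ) := ∑ u : K, ρ (u : G) with hT
  have hT2 : T * T = (Fintype.card K : ℂ) • T := by
    rw [hT, Finset.sum_mul_sum]
    simp only [← map_mul]
    have hre : ∀ a : K, ∑ b : K, ρ ((a : G) * b) = ∑ b : K, ρ (b : G) := fun a => by
      exact Fintype.sum_equiv (Equiv.mulLeft a) _ _ fun b => rfl
    rw [Finset.sum_congr rfl fun a _ => hre a, Finset.sum_const, Finset.card_univ,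
      Nat.cast_smul_eq_nsmul]
  have hK : (Fintype.card K : ℂ) ≠ 0 := by simp
  set E : Module.End ℂ (Fin n → ℂ) := (Fintype.card K : ℂ)⁻¹ • T with hE
  have hE2 : IsIdempotentElem E := by
    show E * E = E
    rw [hE, smul_mul_smul_comm, hT2, smul_smul, mul_assoc, inv_mul_cancel₀ hK, mul_one]
  obtain ⟨p, hp⟩ : ∃ p, LinearMap.IsProj p E := ⟨_, (LinearMap.isProj_range_iff_isIdempotentElem E).mpr hE2⟩
  have htr : LinearMap.trace ℂ _ E = 0 := by
    rw [hE, hT, map_smul, map_sum]
    simp only [Representation.character] at h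
    rw [h, smul_zero]
  rw [hp.trace] at htr
  have hp0 : p = ⊥ := Submodule.finrank_eq_zero.mp (by exact_mod_cast htr)
  have hT0 : T = 0 := by
    have hE0 : E = 0 := LinearMap.ext fun v => by
      have := hp.map_mem v
      rw [hp0, Submodule.mem_bot] at this
      simpa using this
    rw [hE] at hE0
    exact (smul_eq_zero.mp hE0).resolve_left (inv_ne_zero hK)
  calc ∑ u : K, ρ.character (x * u) = LinearMap.trace ℂ _ (ρ x * T) := by
        rw [hT, Finset.mul_sum, map_sum]
        simp [Representation.character]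
    _ = 0 := by rw [hT0, mul_zero, map_zero]

/-- If translation multiplies a sum by a number other than one, the sum vanishes. -/
theorem eq_zero_of_eq_mul {c T : ℂ} (hc : c ≠ 1) (h : T = c * T) : T = 0 := by
  by_contra hT
  exact hc (mul_right_cancel₀ hT (by rw [one_mul]; exact h.symm))

/-! ### Double cosets -/

/-- The stabiliser of a double coset representative. -/
def dStab (X Y : Subgroup G) (g : G) : Subgroup G := X ⊓ Y.map (MulAut.conj g).toMonoidHom

theorem mem_dStab {X Y : Subgroup G} {g x : G} : x ∈ dStab X Y g ↔ x ∈ X ∧ g⁻¹ * x * g ∈ Y := by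
  simp only [dStab, Subgroup.mem_inf, Subgroup.mem_map, MulEquiv.coe_toMonoidHom, MulAut.conj_apply]
  refine and_congr_right fun _ => ⟨?_, fun h => ⟨_, h, by group⟩⟩
  rintro ⟨y, hy, rfl⟩
  simpa [mul_assoc] using hy

theorem sum_doubleCoset_single (X Y : Subgroup G) [Fintype X] [Fintype Y] (g : G) (T : G → ℂ)
    [DecidablePred fun g' => ∃ x ∈ X, ∃ y ∈ Y, g' = x * g * y] :
    ∑ x : X, ∑ y : Y, T (x * g * y) = (Nat.card (dStab X Y g) : ℂ) *
      ∑ g' ∈ Finset.univ.filter (fun g' => ∃ x ∈ X, ∃ y ∈ Y, g' = x * g * y), T g' := by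
  classical
  rw [← Fintype.sum_prod_type (f := fun p : X × Y => T (p.1 * g * p.2)), Finset.mul_sum,
    ← Finset.sum_fiberwise_of_maps_to (s := (Finset.univ : Finset (X × Y)))
      (t := Finset.univ.filter fun g' => ∃ x ∈ X, ∃ y ∈ Y, g' = x * g * y)
      (g := fun p => (p.1 : G) * g * p.2)
      (fun p _ => Finset.mem_filter.mpr ⟨Finset.mem_univ _, p.1, p.1.2, p.2, p.2.2, rfl⟩)]
  refine Finset.sum_congr rfl fun g' hg' => ?_
  rw [Finset.sum_congr rfl (g := fun _ => T g') (fun p hp => by rw [(Finset.mem_filter.mp hp).2]),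
    Finset.sum_const, nsmul_eq_mul]
  congr 2
  obtain ⟨-, x₀, hx₀, y₀, hy₀, rfl⟩ := Finset.mem_filter.mp hg'
  rw [← Fintype.card_subtype, ← Nat.card_eq_fintype_card]
  refine Nat.card_congr
    { toFun := fun p => ⟨x₀⁻¹ * (p.1.1 : G), mem_dStab.mpr ⟨X.mul_mem (X.inv_mem hx₀) p.1.1.2, ?_⟩⟩
      invFun := fun a => ⟨⟨⟨x₀ * a.1, X.mul_mem hx₀ (mem_dStab.mp a.2).1⟩,
        ⟨(g⁻¹ * a.1 * g)⁻¹ * y₀, Y.mul_mem (Y.inv_mem (mem_dStab.mp a.2).2) hy₀⟩⟩, by simp [mul_assoc]⟩
      left_inv := fun p => ?_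
      right_inv := fun a => by simp }
  · have e : g⁻¹ * (x₀⁻¹ * (p.1.1 : G)) * g = y₀ * (p.1.2 : G)⁻¹ := by
      rw [eq_mul_inv_iff_mul_eq]
      calc g⁻¹ * (x₀⁻¹ * (p.1.1 : G)) * g * p.1.2 = g⁻¹ * x₀⁻¹ * ((p.1.1 : G) * g * p.1.2) := by group
        _ = y₀ := by rw [p.2]; group
    rw [e]
    exact Y.mul_mem hy₀ (Y.inv_mem p.1.2.2)
  · have e := p.2
    refine Subtype.ext (Prod.ext (by simp) (Subtype.ext ?_))
    show (g⁻¹ * (x₀⁻¹ * (p.1.1 : G)) * g)⁻¹ * y₀ = (p.1.2 : G)
    rw [inv_mul_eq_iff_eq_mul]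
    calc y₀ = g⁻¹ * x₀⁻¹ * ((p.1.1 : G) * g * p.1.2) := by rw [e]; group
      _ = _ := by group

/-- A bi-invariant function summed over the group through double coset representatives, each double
coset in the support being hit `N` times. -/
theorem sum_doubleCoset (X Y : Subgroup G) (T : G → ℂ) (hT : ∀ x ∈ X, ∀ y ∈ Y, ∀ g, T (x * g * y) = T g)
    {ι : Type*} [Fintype ι] (f : ι → G) (s : ι → ℂ) (N : ℕ)
    (hcov : ∀ g, T g ≠ 0 → Nat.card {i : ι // ∃ x ∈ X, ∃ y ∈ Y, g = x * f i * y} = N)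
    (hval : ∀ i, T (f i) = s i * Nat.card (dStab X Y (f i))) :
    (N : ℂ) * ∑ g : G, T g = (Nat.card X : ℂ) * Nat.card Y * ∑ i, s i := by
  classical
  have key : ∀ i, ∑ g' ∈ Finset.univ.filter (fun g' => ∃ x ∈ X, ∃ y ∈ Y, g' = x * f i * y), T g' =
      (Nat.card X : ℂ) * Nat.card Y * s i := fun i => by
    have h := sum_doubleCoset_single X Y (f i) T
    simp only [hT _ (SetLike.coe_mem _) _ (SetLike.coe_mem _), Finset.sum_const, Finset.card_univ,
      nsmul_eq_mul, ← Nat.card_eq_fintype_card, hval] at h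
    refine mul_left_cancel₀ (a := (Nat.card (dStab X Y (f i)) : ℂ)) (by simp) ?_
    linear_combination -h
  rw [Finset.mul_sum, Finset.mul_sum, ← Finset.sum_congr rfl fun i _ => key i]
  simp only [Finset.sum_filter]
  rw [Finset.sum_comm]
  refine Finset.sum_congr rfl fun g _ => ?_
  rw [← Finset.sum_filter, Finset.sum_const, nsmul_eq_mul]
  by_cases hg : T g = 0
  · simp [hg]
  · congr 2
    rw [← hcov g hg, Nat.card_eq_fintype_card, Fintype.card_subtype]

/-- Products of irreducible characters separate the class functions of a finite product. -/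
theorem exists_prod_ne_zero {ι : Type*} [Fintype ι] [DecidableEq ι] {A : ι → Type*} [∀ i, Group (A i)]
    [∀ i, Fintype (A i)] {h : (∀ i, A i) → ℂ} (hcl : IsClassFunction (∀ i, A i) h) {y : ∀ i, A i}
    (hy : h y ≠ 0) :
    ∃ σ : ∀ i, IrrCharacter (A i), ∑ x : ∀ i, A i, h x * ∏ i, conj ((σ i : A i → ℂ) (x i)) ≠ 0 := by
  classical
  by_contra hno
  push Not at hno
  have h0 : ∑ σ : ∀ i, IrrCharacter (A i),
      (∏ i, (σ i : A i → ℂ) (y i)) * ∑ x : ∀ i, A i, h x * ∏ i, conj ((σ i : A i → ℂ) (x i)) = 0 :=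
    Finset.sum_eq_zero fun σ _ => by rw [hno σ, mul_zero]
  simp only [Finset.mul_sum] at h0
  rw [Finset.sum_comm] at h0
  have hterm : ∀ x : ∀ i, A i, ∑ σ : ∀ i, IrrCharacter (A i),
      (∏ i, (σ i : A i → ℂ) (y i)) * (h x * ∏ i, conj ((σ i : A i → ℂ) (x i))) =
        if (∀ i, IsConj (y i) (x i)) then h y * ∏ i, (Nat.card (Subgroup.centralizer ({y i} : Set (A i))) : ℂ)
        else 0 := fun x => by
    have hp := (Fintype.prod_sum (f := fun i (χ : IrrCharacter (A i)) => (χ : A i → ℂ) (y i) * conj ((χ : A i → ℂ) (x i)))).symm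
    rw [Finset.sum_congr rfl (g := fun σ => h x * ∏ i, ((σ i : A i → ℂ) (y i) * conj ((σ i : A i → ℂ) (x i))))
      (fun σ _ => by rw [Finset.prod_mul_distrib]; ring), ← Finset.mul_sum, hp]
    split_ifs with hc
    · have hxy : h x = h y := by
        choose c hc' using fun i => isConj_iff.mp (hc i)
        have e : c * y * c⁻¹ = x := funext fun i => hc' i
        rw [← e, hcl]
      rw [hxy]
      refine congrArg _ (Finset.prod_congr rfl fun i _ => ?_)
      rw [column_orth, if_pos (hc i)]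
    · push Not at hc
      obtain ⟨i, hi⟩ := hc
      rw [Finset.prod_eq_zero (Finset.mem_univ i), mul_zero]
      rw [column_orth, if_neg hi]
  rw [Finset.sum_congr rfl fun x _ => hterm x, ← Finset.sum_filter, Finset.sum_const, nsmul_eq_mul] at h0
  rcases mul_eq_zero.mp h0 with h1 | h1
  · have : (Finset.univ.filter fun x : ∀ i, A i => ∀ i, IsConj (y i) (x i)).card ≠ 0 :=
      Finset.card_ne_zero.mpr ⟨y, Finset.mem_filter.mpr ⟨Finset.mem_univ _, fun i => IsConj.refl _⟩⟩
    exact this (by exact_mod_cast h1)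
  · rcases mul_eq_zero.mp h1 with h2 | h2
    · exact hy h2
    · obtain ⟨i, -, hi⟩ := Finset.prod_eq_zero_iff.mp h2
      simp at hi

end CfsgLib.GLCusp
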