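import Cfsg.Agent.Lib.GLCusp.Pattern
import Cfsg.Agent.Lib.GLCusp.Sums

/-!
Parabolic subgroups attached to labellings, their block homomorphisms, cuspidal functions and data for
parabolic induction.
-/

set_option autoImplicit false
set_option linter.unusedSectionVars false

namespace CfsgLib.GLCusp

open Matrix Finset Cfsg CfsgLib.Characters
open scoped ComplexConjugate

variable {F : Type*} [Field F] [Fintype F] [DecidableEq F]
variable {ι κ : Type*} [Fintype ι] [DecidableEq ι] [Fintype κ] [DecidableEq κ]

theorem sum_equiv_mem {G H : Type*} [Group G] [Group H] [Fintype G] [Fintype H] (e : G ≃* H)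
    {K : Subgroup G} {L : Subgroup H} [Fintype K] [Fintype L] (h : ∀ g, e g ∈ L ↔ g ∈ K)
    {M : Type*} [AddCommMonoid M] (f : H → M) : ∑ u : K, f (e u) = ∑ u : L, f u :=
  Fintype.sum_equiv (e.toEquiv.subtypeEquiv fun g => (h g).symm) _ _ fun _ => rfl

/-! ### Cuspidal functions -/

/-- The pattern of the radical attached to a subset. -/
def splitPat (s : Finset ι) : Pat ι where
  r i j := i ∈ s ∧ j ∉ s
  trans h₁ h₂ := absurd h₂.1 h₁.2
  irrefl _ h := h.2 h.1

/-- All sums over cosets of unipotent radicals of maximal parabolic subgroups vanish. -/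
def IsCusp (χ : GL ι F → ℂ) : Prop :=
  ∀ s : Finset ι, s.Nonempty → s ≠ Finset.univ → ∀ x : GL ι F,
    ∑ u : (patGroup (splitPat s) : Subgroup (GL ι F)), χ (x * u) = 0

theorem IsCusp.comp_reGL {χ : GL κ F → ℂ} (h : IsCusp χ) (e : ι ≃ κ) : IsCusp fun g => χ (reGL e g) := by
  intro s hs hne x
  have h1 := h (s.map e.toEmbedding) (hs.map) (fun he => hne (Finset.eq_univ_iff_forall.mpr fun i => by
    have := Finset.eq_univ_iff_forall.mp he (e i)
    simpa using this)) (reGL e x)
  simp only [map_mul]
  rw [← h1]
  refine sum_equiv_mem (reGL e) (fun g => ?_) (fun u => χ (reGL e x * u))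
  simp only [mem_patGroup, splitPat, reGL_apply, Finset.mem_map_equiv]
  refine ⟨fun hg i j hn => ?_, fun hg i j hn => ?_⟩
  · have := hg (e i) (e j) (by simpa using hn)
    simpa [Matrix.one_apply] using this
  · rw [hg _ _ hn]
    simp [Matrix.one_apply]

/-! ### Parabolic subgroups of labellings -/

variable {k : ℕ} (b : ι → Fin k)

/-- The parabolic subgroup of a labelling. -/
def par : Subgroup (GL ι F) :=
  finSubgroup
    { carrier := {g | (g : Matrix ι ι F).BlockTriangular b}
      one_mem' := blockTriangular_one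
      mul_mem' := fun {x y} hx hy => by
        show Matrix.BlockTriangular ((x * y : GL ι F) : Matrix ι ι F) b
        rw [Units.val_mul]
        exact hx.mul hy }

noncomputable instance fintypePar : Fintype (par b : Subgroup (GL ι F)) := Fintype.ofFinite _

theorem mem_par {g : GL ι F} : g ∈ par b ↔ ∀ i j, b j < b i → (g : Matrix ι ι F) i j = 0 := Iff.rfl

theorem par_apply {g : GL ι F} (hg : g ∈ par b) {i j : ι} (h : b j < b i) : (g : Matrix ι ι F) i j = 0 :=
  hg h

/-- A diagonal block of an element of the parabolic subgroup. -/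
def blkMat (c : Fin k) : (par b : Subgroup (GL ι F)) →* Matrix {i // b i = c} {i // b i = c} F where
  toFun p := (p : GL ι F).val.toSquareBlock b c
  map_one' := by ext i j; simp [Matrix.toSquareBlock_def, Matrix.one_apply, Subtype.ext_iff]
  map_mul' p q := by
    ext ⟨i, hi⟩ ⟨j, hj⟩
    simp only [Matrix.toSquareBlock_def, Matrix.mul_apply, Matrix.of_apply, Subgroup.coe_mul, Units.val_mul]
    rw [← Finset.sum_subtype (Finset.univ.filter fun l => b l = c) (fun l => by simp)
      (fun l => (p : GL ι F).val i l * (q : GL ι F).val l j), Finset.sum_filter]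
    refine Finset.sum_congr rfl fun l _ => ?_
    split_ifs with hl
    · rfl
    · rcases lt_or_gt_of_ne hl with h | h
      · rw [par_apply b p.2 (h.trans_eq hi.symm), zero_mul]
      · rw [par_apply b q.2 (hj.symm ▸ h), mul_zero]

/-- A diagonal block as an invertible matrix. -/
def blk (c : Fin k) : (par b : Subgroup (GL ι F)) →* GL {i // b i = c} F := (blkMat b c).toHomUnits

@[simp] theorem blk_apply (c : Fin k) (p : (par b : Subgroup (GL ι F))) (i j : {i // b i = c}) :
    (blk b c p).val i j = (p : GL ι F).val i j := rfl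

/-- All diagonal blocks. -/
def blkAll : (par b : Subgroup (GL ι F)) →* ∀ c, GL {i // b i = c} F := MonoidHom.pi (blk b)

@[simp] theorem blkAll_apply (p : (par b : Subgroup (GL ι F))) (c : Fin k) : blkAll b p c = blk b c p := rfl

/-- The block diagonal matrix with given blocks. -/
def diagMat (y : ∀ c, GL {i // b i = c} F) : Matrix ι ι F :=
  Matrix.of fun i j => if h : b j = b i then (y (b i)).val ⟨i, rfl⟩ ⟨j, h⟩ else 0

theorem diagMat_of_eq (y : ∀ c, GL {i // b i = c} F) {i j : ι} {c : Fin k} (hi : b i = c) (hj : b j = c) :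
    diagMat b y i j = (y c).val ⟨i, hi⟩ ⟨j, hj⟩ := by
  subst hi
  simp [diagMat, hj]

theorem diagMat_of_ne (y : ∀ c, GL {i // b i = c} F) {i j : ι} (h : b i ≠ b j) : diagMat b y i j = 0 := by
  simp [diagMat, Ne.symm h]

/-- Block diagonal matrices as a homomorphism. -/
def diagHom : (∀ c, GL {i // b i = c} F) →* GL ι F :=
  MonoidHom.toHomUnits
    { toFun := diagMat b
      map_one' := by
        ext i j
        by_cases h : b j = b i
        · rw [diagMat_of_eq b _ rfl h]
          simp [Matrix.one_apply]
        · rw [diagMat_of_ne b _ (Ne.symm h), Matrix.one_apply_ne]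
          rintro rfl
          exact h rfl
      map_mul' := fun y z => by
        ext i j
        rw [Matrix.mul_apply]
        by_cases h : b j = b i
        · rw [diagMat_of_eq b _ rfl h, Pi.mul_apply, Units.val_mul, Matrix.mul_apply,
            ← Finset.sum_subset (Finset.subset_univ (Finset.univ.filter fun l => b l = b i))
              (fun l _ hl => by
                rw [diagMat_of_ne b y (fun e => hl (Finset.mem_filter.mpr ⟨Finset.mem_univ _, e.symm⟩)), zero_mul]),
            Finset.sum_subtype (Finset.univ.filter fun l => b l = b i) (p := fun l => b l = b i) (fun l => by simp)]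
          refine Finset.sum_congr rfl fun l _ => ?_
          rw [diagMat_of_eq b y rfl l.2, diagMat_of_eq b z l.2 h]
        · rw [diagMat_of_ne b _ (Ne.symm h)]
          refine (Finset.sum_eq_zero fun l _ => ?_).symm
          by_cases hl : b i = b l
          · rw [diagMat_of_ne b z (fun e => h ((hl.trans e).symm)), mul_zero]
          · rw [diagMat_of_ne b y hl, zero_mul] }

theorem diagHom_apply (y : ∀ c, GL {i // b i = c} F) (i j : ι) :
    (diagHom b y).val i j = diagMat b y i j := rfl

theorem diagHom_mem (y : ∀ c, GL {i // b i = c} F) : diagHom b y ∈ par b :=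
  fun i j h => by rw [diagHom_apply, diagMat_of_ne b y (ne_of_gt h)]

theorem blk_diag (y : ∀ c, GL {i // b i = c} F) (c : Fin k) : blk b c ⟨diagHom b y, diagHom_mem b y⟩ = y c := by
  ext i j
  rw [blk_apply, diagHom_apply, diagMat_of_eq b y i.2 j.2]

/-- The pattern of the unipotent radical of a labelling. -/
def unipPat : Pat ι where
  r i j := b i < b j
  trans := lt_trans
  irrefl _ := lt_irrefl _

theorem unip_le_par : (patGroup (unipPat b) : Subgroup (GL ι F)) ≤ par b := fun g hg i j h => by
  rw [hg i j (not_lt.mpr h.le), Matrix.one_apply_ne]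
  rintro rfl
  exact lt_irrefl _ h

theorem blk_eq_one_iff (p : (par b : Subgroup (GL ι F))) :
    (∀ c, blk b c p = 1) ↔ (p : GL ι F) ∈ patGroup (unipPat b) := by
  refine ⟨fun h i j hn => ?_, fun h c => ?_⟩
  · rcases lt_or_eq_of_le (not_lt.mp (show ¬ b i < b j from hn)) with hlt | heq
    · rw [par_apply b p.2 hlt, Matrix.one_apply_ne]
      rintro rfl
      exact lt_irrefl _ hlt
    · have := congrArg (fun M : GL {a // b a = b i} F => M.val ⟨i, rfl⟩ ⟨j, heq⟩) (h (b i))
      simpa [Matrix.one_apply] using this
  · ext i j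
    rw [blk_apply, h i j (by rw [show (unipPat b).r = fun i j => b i < b j from rfl]; simp [i.2, j.2])]
    simp [Matrix.one_apply, Subtype.ext_iff]

theorem pm_mem_par {π : Equiv.Perm ι} (h : ∀ j, b (π j) = b j) : (pm π : GL ι F) ∈ par b := fun i j hij => by
  rw [pm_apply, if_neg]
  rintro rfl
  exact absurd hij (by rw [h]; exact lt_irrefl _)

/-! ### Data for parabolic induction -/

/-- The cuspidal irreducible characters of `GL_n(F)`. -/
abbrev Cusp (F : Type*) [Field F] [Fintype F] [DecidableEq F] (n : ℕ) :=
  {χ : IrrCharacter (GL (Fin n) F) // 0 < n ∧ IsCusp (χ : GL (Fin n) F → ℂ)}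

/-- Cuspidal characters of all degrees. -/
abbrev Pool (F : Type*) [Field F] [Fintype F] [DecidableEq F] := Σ m : ℕ, Cusp F m

/-- A labelling with a cuspidal character on each block. -/
structure Datum (F : Type*) [Field F] [Fintype F] [DecidableEq F] (n : ℕ) where
  k : ℕ
  b : Fin n → Fin k
  t : Fin k → Pool F
  e : ∀ c, Fin (t c).1 ≃ {i // b i = c}

variable {n : ℕ}

theorem isIrr_comp_reGL {χ : GL κ F → ℂ} (h : IsIrrCharacter (GL κ F) χ) (e : ι ≃ κ) :
    IsIrrCharacter (GL ι F) fun g => χ (reGL e g) :=
  CfsgLib.CharCorr.isIrrCharacter_comp_equiv h (reGL e)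

theorem Datum.surj (D : Datum F n) : Function.Surjective D.b := fun c =>
  ⟨(D.e c ⟨0, (D.t c).2.2.1⟩).1, (D.e c ⟨0, (D.t c).2.2.1⟩).2⟩

theorem Datum.card_block (D : Datum F n) (c : Fin D.k) :
    Fintype.card {i // D.b i = c} = (D.t c).1 := by
  rw [← Fintype.card_congr (D.e c), Fintype.card_fin]

/-- The character on a block. -/
def Datum.σ (D : Datum F n) (c : Fin D.k) : GL {i // D.b i = c} F → ℂ :=
  fun g => ((D.t c).2.1 : GL (Fin (D.t c).1) F → ℂ) (reGL (D.e c).symm g)

theorem Datum.σ_irr (D : Datum F n) (c : Fin D.k) : IsIrrCharacter _ (D.σ c) :=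
  isIrr_comp_reGL (D.t c).2.1.2 _

theorem Datum.σ_cusp (D : Datum F n) (c : Fin D.k) : IsCusp (D.σ c) :=
  IsCusp.comp_reGL (D.t c).2.2.2 _

/-- The function on the parabolic subgroup. -/
def Datum.fn (D : Datum F n) : ↥(par D.b : Subgroup (GL (Fin n) F)) → ℂ :=
  fun p => ∏ c, D.σ c (blk D.b c p)

theorem Datum.isCharacter_fn (D : Datum F n) : IsCharacter _ D.fn := by
  classical
  have key : ∀ s : Finset (Fin D.k),
      IsCharacter _ (fun p : (par D.b : Subgroup (GL (Fin n) F)) => ∏ c ∈ s, D.σ c (blk D.b c p)) := by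
    intro s
    induction s using Finset.induction with
    | empty => simp only [Finset.prod_empty]; exact isCharacter_one
    | insert a s ha ih =>
      simp only [Finset.prod_insert ha]
      exact isCharacter_mul (CfsgLib.CharCorr.isCharacter_comp (isCharacter_of_irr (D.σ_irr a)) (blk D.b a)) ih
  exact key Finset.univ

/-- The parabolically induced character. -/
noncomputable def Datum.R (D : Datum F n) : GL (Fin n) F → ℂ := indFun (par D.b) D.fn

theorem Datum.isCharacter_R (D : Datum F n) : IsCharacter _ D.R :=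
  CfsgLib.Induction.isCharacter_indFun _ D.isCharacter_fn

/-- The function extended by zero. -/
noncomputable def Datum.ext (D : Datum F n) : GL (Fin n) F → ℂ := extendByZero (par D.b) D.fn

theorem Datum.ext_conj (D : Datum F n) {p : GL (Fin n) F} (hp : p ∈ par D.b) (g : GL (Fin n) F) :
    D.ext (p * g * p⁻¹) = D.ext g :=
  CfsgLib.Induction.extendByZero_conj _ (isClassFunction_of_isCharacter D.isCharacter_fn) ⟨p, hp⟩ g

theorem Datum.R_apply (D : Datum F n) (g : GL (Fin n) F) :
    D.R g = (Nat.card (par D.b : Subgroup (GL (Fin n) F)) : ℂ)⁻¹ * ∑ x, D.ext (x⁻¹ * g * x) := rfl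

/-- The multiset of cuspidal characters of a datum. -/
def Datum.types (D : Datum F n) : Multiset (Pool F) := Finset.univ.val.map D.t

theorem Datum.types_sum (D : Datum F n) : (D.types.map Sigma.fst).sum = n := by
  simp only [Datum.types, Multiset.map_map, Function.comp_def]
  rw [show (Finset.univ.val.map fun c => (D.t c).1).sum = ∑ c, (D.t c).1 from rfl,
    ← Finset.sum_congr rfl fun c _ => D.card_block c, ← Fintype.card_sigma,
    Fintype.card_congr (Equiv.sigmaFiberEquiv D.b), Fintype.card_fin]

end CfsgLib.GLCusp
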