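import Cfsg.Agent.Lib.GLCusp.Mackey

/-!
Every irreducible character is a constituent of a parabolically induced cuspidal datum.
-/

set_option autoImplicit false
set_option linter.unusedSectionVars false

namespace CfsgLib.GLCusp

open Matrix Finset Cfsg CfsgLib.Characters
open scoped ComplexConjugate

variable {F : Type*} [Field F] [Fintype F] [DecidableEq F]
variable {n : ℕ}

section Levi

variable {k : ℕ} (b : Fin n → Fin k)

theorem conj_mem_unip {p u : GL (Fin n) F} (hp : p ∈ par b) (hu : u ∈ patGroup (unipPat b)) :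
    p * u * p⁻¹ ∈ patGroup (unipPat b) := by
  have hu' := unip_le_par b hu
  refine (blk_eq_one_iff b ⟨p * u * p⁻¹, mul_mem (mul_mem hp hu') (inv_mem hp)⟩).mp fun c => ?_
  rw [show (⟨p * u * p⁻¹, _⟩ : (par b : Subgroup (GL (Fin n) F))) = ⟨p, hp⟩ * ⟨u, hu'⟩ * ⟨p, hp⟩⁻¹ from rfl,
    map_mul, map_mul, (blk_eq_one_iff b ⟨u, hu'⟩).mpr hu c, mul_one, map_inv, mul_inv_cancel]

/-- The parabolic subgroup as block diagonal matrices times the radical. -/
noncomputable def leviEquiv :
    (∀ c, GL {i // b i = c} F) × (patGroup (unipPat b) : Subgroup (GL (Fin n) F)) ≃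
      (par b : Subgroup (GL (Fin n) F)) where
  toFun x := ⟨diagHom b x.1 * (x.2 : GL (Fin n) F), mul_mem (diagHom_mem b x.1) (unip_le_par b x.2.2)⟩
  invFun p := ⟨blkAll b p, ⟨(diagHom b (blkAll b p))⁻¹ * p, by
    refine (blk_eq_one_iff b ⟨_, mul_mem (inv_mem (diagHom_mem b _)) p.2⟩).mp fun c => ?_
    rw [show (⟨(diagHom b (blkAll b p))⁻¹ * p, _⟩ : (par b : Subgroup (GL (Fin n) F))) =
      (⟨_, diagHom_mem b (blkAll b p)⟩ : (par b : Subgroup (GL (Fin n) F)))⁻¹ * p from rfl, map_mul, map_inv,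
      blk_diag, blkAll_apply, inv_mul_cancel]⟩⟩
  left_inv x := by
    have hb : blkAll b ⟨diagHom b x.1 * (x.2 : GL (Fin n) F), mul_mem (diagHom_mem b x.1) (unip_le_par b x.2.2)⟩ = x.1 := by
      funext c
      rw [blkAll_apply, show (⟨diagHom b x.1 * (x.2 : GL (Fin n) F), _⟩ : (par b : Subgroup (GL (Fin n) F))) =
        ⟨_, diagHom_mem b x.1⟩ * ⟨_, unip_le_par b x.2.2⟩ from rfl, map_mul, blk_diag,
        (blk_eq_one_iff b ⟨_, unip_le_par b x.2.2⟩).mpr x.2.2 c, mul_one]
    refine Prod.ext hb (Subtype.ext ?_)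
    simp only [hb]
    group
  right_inv p := Subtype.ext (by simp)

/-- A labelling refined by cutting one block. -/
def refineLabel (c : Fin k) (S : Finset (Fin n)) : Fin n → Fin (k + 1) := fun i =>
  if b i < c ∨ (b i = c ∧ i ∈ S) then (b i).castSucc else (b i).succ

theorem refineLabel_surjective (hb : Function.Surjective b) {c : Fin k} {S : Finset (Fin n)}
    (h1 : ∃ i ∈ S, b i = c) (h2 : ∃ i ∉ S, b i = c) : Function.Surjective (refineLabel b c S) := by
  intro d
  rcases lt_trichotomy (d : ℕ) c with h | h | h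
  · obtain ⟨i, hi⟩ := hb ⟨d, h.trans c.2⟩
    refine ⟨i, Fin.ext ?_⟩
    rw [refineLabel, if_pos (Or.inl (by rw [hi]; exact h))]
    simp [hi]
  · obtain ⟨i, hiS, hi⟩ := h1
    refine ⟨i, Fin.ext ?_⟩
    rw [refineLabel, if_pos (Or.inr ⟨hi, hiS⟩)]
    simp [hi, h]
  · rcases Nat.lt_or_ge ((c : ℕ) + 1) d with h' | h'
    · obtain ⟨i, hi⟩ := hb ⟨(d : ℕ) - 1, by have := d.2; omega⟩
      refine ⟨i, Fin.ext ?_⟩
      rw [refineLabel, if_neg]
      · simp [hi]; omega
      · rw [hi]; simp only [Fin.lt_def, Fin.ext_iff, not_or, not_and]; exact ⟨by omega, fun e => by omega⟩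
    · obtain ⟨i, hiS, hi⟩ := h2
      refine ⟨i, Fin.ext ?_⟩
      rw [refineLabel, if_neg]
      · simp [hi]; omega
      · rw [hi]; simp [hiS]

theorem refineLabel_lt (c : Fin k) (S : Finset (Fin n)) (i j : Fin n) :
    refineLabel b c S i < refineLabel b c S j ↔
      b i < b j ∨ (b i = c ∧ b j = c ∧ i ∈ S ∧ j ∉ S) := by
  unfold refineLabel
  by_cases hi : i ∈ S <;> by_cases hj : j ∈ S <;>
    simp only [hi, hj, and_true, and_false, or_false, not_true_eq_false, not_false_eq_true, false_and] <;>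
    split_ifs <;> simp only [Fin.lt_def, Fin.ext_iff, Fin.val_castSucc, Fin.val_succ] at * <;> omega

variable {b}

/-- Sums over the radical of a character, as a function on the Levi subgroup. -/
noncomputable def leviFun (b : Fin n → Fin k) (χ : GL (Fin n) F → ℂ) : (∀ c, GL {i // b i = c} F) → ℂ :=
  fun y => ∑ u : (patGroup (unipPat b) : Subgroup (GL (Fin n) F)), χ (diagHom b y * u)

theorem isClassFunction_leviFun {χ : GL (Fin n) F → ℂ} (hχ : IsClassFunction _ χ) :
    IsClassFunction _ (leviFun b χ) := by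
  intro y z
  simp only [leviFun, map_mul, map_inv]
  refine (Fintype.sum_equiv
    ((MulAut.conj (diagHom b z)).toEquiv.subtypeEquiv fun u => ⟨fun hu => ?_, fun hu => ?_⟩) _ _ fun u => ?_).symm
  · exact conj_mem_unip b (diagHom_mem b z) hu
  · have := conj_mem_unip b (inv_mem (diagHom_mem b z)) hu
    simpa [mul_assoc] using this
  · simp only [MulEquiv.toEquiv_eq_coe, Equiv.subtypeEquiv_apply, EquivLike.coe_coe, MulAut.conj_apply]
    rw [← hχ (diagHom b y * u) (diagHom b z)]
    congr 1
    group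

theorem leviFun_cusp {χ : GL (Fin n) F → ℂ} (hχ : IsCharacter _ χ) (hb : Function.Surjective b)
    (hmax : ∀ b' : Fin n → Fin (k + 1), Function.Surjective b' →
      ∑ u : (patGroup (unipPat b') : Subgroup (GL (Fin n) F)), χ u = 0)
    (y : ∀ c, GL {i // b i = c} F) (c : Fin k) (S : Finset {i // b i = c}) (hS : S.Nonempty)
    (hS' : S ≠ Finset.univ) :
    ∑ v : (patGroup (splitPat S) : Subgroup (GL {i // b i = c} F)), leviFun b χ (y * Pi.mulSingle c (v : GL {i // b i = c} F)) = 0 := by
  classical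
  set S' : Finset (Fin n) := S.map (Function.Embedding.subtype _) with hS'def
  have hmem : ∀ a : {i // b i = c}, (a : Fin n) ∈ S' ↔ a ∈ S := fun a =>
    Finset.mem_map' (Function.Embedding.subtype _)
  have h1 : ∃ i ∈ S', b i = c := by
    obtain ⟨a, ha⟩ := hS
    exact ⟨a, (hmem a).mpr ha, a.2⟩
  have h2 : ∃ i ∉ S', b i = c := by
    obtain ⟨a, ha⟩ : ∃ a, a ∉ S := by
      by_contra hall
      push Not at hall
      exact hS' (Finset.eq_univ_iff_forall.mpr hall)
    exact ⟨a, fun h => ha ((hmem a).mp h), a.2⟩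
  set b' := refineLabel b c S'
  let A : Pat (Fin n) :=
    { r := fun i j => b i = c ∧ b j = c ∧ i ∈ S' ∧ j ∉ S'
      trans := fun h h' => absurd h'.2.2.1 h.2.2.2
      irrefl := fun i h => h.2.2.2 h.2.2.1 }
  have hzero := sum_coset_eq_zero hχ (patGroup (unipPat b')) (hmax b' (refineLabel_surjective b hb h1 h2))
    (diagHom b y)
  rw [sum_factor (unipPat b') A (unipPat b) (fun i j => (refineLabel_lt b c S' i j).trans or_comm)
    (fun i j hA hB => (ne_of_lt (show b i < b j from hB)) (hA.1.trans hA.2.1.symm))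
    (fun u => χ (diagHom b y * u))] at hzero
  have hto : ∀ v : (patGroup (splitPat S) : Subgroup (GL {i // b i = c} F)),
      diagHom b (Pi.mulSingle c (v : GL {i // b i = c} F)) ∈ patGroup A := by
    intro v i j hn
    rw [diagHom_apply]
    by_cases hbb : b j = b i
    · rw [diagMat_of_eq b _ rfl hbb]
      by_cases hic : b i = c
      · have key : ∀ (d : Fin k) (hd : d = c) (h1 : b i = d) (h2 : b j = d),
            ((Pi.mulSingle c (v : GL {i // b i = c} F) : ∀ c, GL {i // b i = c} F) d).val ⟨i, h1⟩ ⟨j, h2⟩ =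
              (1 : Matrix (Fin n) (Fin n) F) i j := by
          intro d hd e1 e2
          subst hd
          rw [Pi.mulSingle_eq_same, v.2 _ _ (fun h => hn ⟨e1, e2, (hmem ⟨i, e1⟩).mpr h.1, fun h' => h.2 ((hmem ⟨j, e2⟩).mp h')⟩)]
          simp [Matrix.one_apply, Subtype.ext_iff]
        exact key _ hic rfl hbb
      · rw [Pi.mulSingle_eq_of_ne hic]
        simp [Matrix.one_apply, Subtype.ext_iff]
    · rw [diagMat_of_ne b _ (Ne.symm hbb), Matrix.one_apply_ne]
      exact fun h => hbb (by rw [h])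
  let Φ : (patGroup (splitPat S) : Subgroup (GL {i // b i = c} F)) → (patGroup A : Subgroup (GL (Fin n) F)) :=
    fun v => ⟨_, hto v⟩
  have hΦ : Function.Bijective Φ := by
    refine (Nat.bijective_iff_injective_and_card Φ).mpr ⟨fun v v' h => Subtype.ext ?_, ?_⟩
    · have h' := congrArg (fun u : (patGroup A : Subgroup (GL (Fin n) F)) => (u : GL (Fin n) F)) h
      have h'' := congrArg (fun p : (par b : Subgroup (GL (Fin n) F)) => blk b c p)
        (Subtype.ext h' : (⟨_, diagHom_mem b (Pi.mulSingle c (v : GL {i // b i = c} F))⟩ :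
          (par b : Subgroup (GL (Fin n) F))) = ⟨_, diagHom_mem b (Pi.mulSingle c (v' : GL {i // b i = c} F))⟩)
      simpa [blk_diag] using h''
    · rw [card_patGroup, card_patGroup]
      congr 1
      refine Nat.card_congr
        { toFun := fun p => ⟨(p.1.1, p.1.2), p.1.1.2, p.1.2.2, (hmem _).mpr p.2.1, fun h => p.2.2 ((hmem _).mp h)⟩
          invFun := fun p => ⟨(⟨p.1.1, p.2.1⟩, ⟨p.1.2, p.2.2.1⟩), (hmem ⟨p.1.1, p.2.1⟩).mp p.2.2.2.1,
            fun h => p.2.2.2.2 ((hmem ⟨p.1.2, p.2.2.1⟩).mpr h)⟩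
          left_inv := fun p => rfl
          right_inv := fun p => rfl }
  rw [← hzero]
  refine Fintype.sum_equiv (Equiv.ofBijective Φ hΦ) _ _ fun v => ?_
  simp only [leviFun, map_mul, mul_assoc]
  rfl

end Levi

/-- Every irreducible character is a constituent of some induced cuspidal datum. -/
theorem exists_datum (hn : 0 < n) (χ : IrrCharacter (GL (Fin n) F)) :
    ∃ D : Datum F n, classInner D.R (χ : GL (Fin n) F → ℂ) ≠ 0 := by
  classical
  let P : ℕ → Prop := fun k => ∃ b : Fin n → Fin k, Function.Surjective b ∧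
    ∑ u : (patGroup (unipPat b) : Subgroup (GL (Fin n) F)), (χ : GL (Fin n) F → ℂ) u ≠ 0
  have hP1 : P 1 := by
    refine ⟨fun _ => 0, fun c => ⟨⟨0, hn⟩, Subsingleton.elim _ _⟩, ?_⟩
    have : ∀ u : (patGroup (unipPat fun _ : Fin n => (0 : Fin 1)) : Subgroup (GL (Fin n) F)), (u : GL (Fin n) F) = 1 :=
      fun u => Units.ext (Matrix.ext fun i j => u.2 i j (lt_irrefl _))
    simp only [this, Finset.sum_const, Finset.card_univ, nsmul_eq_mul, mul_ne_zero_iff]
    exact ⟨by simp, irr_one_ne_zero χ⟩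
  obtain ⟨k, hk⟩ : ∃ k, k = Nat.findGreatest P n := ⟨_, rfl⟩
  obtain ⟨b, hb, hne⟩ : P k := hk.symm ▸ Nat.findGreatest_spec hn hP1
  have hmax : ∀ b' : Fin n → Fin (k + 1), Function.Surjective b' →
      ∑ u : (patGroup (unipPat b') : Subgroup (GL (Fin n) F)), (χ : GL (Fin n) F → ℂ) u = 0 := by
    intro b' hb'
    by_contra h
    have hle : k + 1 ≤ n := by simpa using Fintype.card_le_of_surjective b' hb'
    exact Nat.findGreatest_is_greatest (P := P) (n := n) (by rw [← hk]; exact Nat.lt_succ_self k) hle ⟨b', hb', h⟩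
  set h := leviFun b (χ : GL (Fin n) F → ℂ) with hh
  have hcl : IsClassFunction _ h := isClassFunction_leviFun (irr_isClassFunction χ)
  have h1 : h 1 ≠ 0 := by simpa [hh, leviFun] using hne
  obtain ⟨σ, hσ⟩ := exists_prod_ne_zero hcl h1
  have hcusp : ∀ c, IsCusp ((σ c : GL {i // b i = c} F → ℂ)) := by
    intro c S hS hS' x
    refine sum_coset_eq_zero (irr_isCharacter _) _ ?_ x
    let e := Equiv.piSplitAt c (fun d => GL {i // b i = d} F)
    let φ : GL {i // b i = c} F → ℂ := fun z =>
      conj (∑ r, h (e.symm (z, r)) * ∏ d : {d // d ≠ c}, conj ((σ d.1 : GL {i // b i = d.1} F → ℂ) (r d)))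
    have hsplit : ∀ (z v : GL {i // b i = c} F) (r : ∀ d : {d // d ≠ c}, GL {i // b i = d.1} F),
        e.symm (z * v, r) = e.symm (z, r) * Pi.mulSingle c v := fun z v r => funext fun d => by
      by_cases hd : d = c
      · subst hd; simp [e, Equiv.piSplitAt]
      · simp [e, Equiv.piSplitAt, hd]
    have hφ : IsClassFunction _ φ := fun z a => by
      simp only [φ]
      refine congrArg _ (Finset.sum_congr rfl fun r _ => ?_)
      congr 1
      rw [← hcl (e.symm (z, r)) (Pi.mulSingle c a)]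
      congr 1
      funext d
      by_cases hd : d = c
      · subst hd; simp [e, Equiv.piSplitAt]
      · simp [e, Equiv.piSplitAt, hd]
    have hk0 : ∑ z, φ z * (σ c : GL {i // b i = c} F → ℂ) z ≠ 0 := by
      refine fun h0 => hσ ?_
      have h0' := congrArg conj h0
      simp only [φ, map_sum, map_mul, Complex.conj_conj, map_zero] at h0'
      rw [← h0', ← Equiv.sum_comp e.symm, Fintype.sum_prod_type]
      refine Finset.sum_congr rfl fun z _ => ?_
      rw [Finset.sum_mul]
      refine Finset.sum_congr rfl fun r _ => ?_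
      rw [mul_assoc]
      congr 1
      rw [← Finset.mul_prod_erase _ _ (Finset.mem_univ c), mul_comm]
      congr 1
      · rw [Finset.prod_subtype (Finset.univ.erase c) (p := fun d => d ≠ c) (fun d => by simp)]
        refine Finset.prod_congr rfl fun d _ => ?_
        simp [e, Equiv.piSplitAt, d.2]
      · simp [e, Equiv.piSplitAt]
    have hsum : ∑ v : (patGroup (splitPat S) : Subgroup (GL {i // b i = c} F)),
        ∑ z, φ z * (σ c : GL {i // b i = c} F → ℂ) (z * v) = 0 := by
      have hshift : ∀ v : GL {i // b i = c} F, ∑ z, φ z * (σ c : GL {i // b i = c} F → ℂ) (z * v) =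
          ∑ z, φ (z * v⁻¹) * (σ c : GL {i // b i = c} F → ℂ) z := fun v =>
        Fintype.sum_equiv (Equiv.mulRight v) _ _ fun z => by simp
      simp only [hshift]
      rw [Finset.sum_comm]
      refine Finset.sum_eq_zero fun z _ => ?_
      rw [← Finset.sum_mul]
      refine mul_eq_zero_of_left ?_ _
      simp only [φ, ← map_sum]
      rw [Finset.sum_comm]
      refine (map_eq_zero _).mpr (Finset.sum_eq_zero fun r _ => ?_)
      rw [← Finset.sum_mul]
      refine mul_eq_zero_of_left ?_ _
      simp only [hsplit]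
      have hz := leviFun_cusp (irr_isCharacter χ) hb hmax (e.symm (z, r)) c S hS hS'
      rw [← hz]
      exact Fintype.sum_equiv (Equiv.inv _) _ _ fun v => by simp [hh]
    rw [Finset.sum_congr rfl fun v _ => CfsgLib.CharCorr.sum_classFn_mul_irr (σ c) hφ _, ← Finset.mul_sum] at hsum
    exact (mul_eq_zero.mp hsum).resolve_left (div_ne_zero hk0 (irr_one_ne_zero _))
  have hpos : ∀ c, 0 < Fintype.card {i // b i = c} := fun c => by
    obtain ⟨i, hi⟩ := hb c
    exact Fintype.card_pos_iff.mpr ⟨⟨i, hi⟩⟩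
  let D : Datum F n :=
    { k := k
      b := b
      t := fun c => ⟨Fintype.card {i // b i = c},
        ⟨fun g => (σ c : GL {i // b i = c} F → ℂ) (reGL (Fintype.equivFin {i // b i = c}).symm g),
          isIrr_comp_reGL (σ c).2 _⟩, hpos c, (hcusp c).comp_reGL _⟩
      e := fun c => (Fintype.equivFin {i // b i = c}).symm }
  refine ⟨D, ?_⟩
  have hσD : ∀ c g, D.σ c g = (σ c : GL {i // b i = c} F → ℂ) g := fun c g => by
    show (σ c : GL {i // b i = c} F → ℂ) (reGL (Fintype.equivFin {i // b i = c}).symm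
      (reGL (Fintype.equivFin {i // b i = c}).symm.symm g)) = _
    rw [reGL_trans]
    refine congrArg _ (Units.ext (Matrix.ext fun i j => ?_))
    simp
  rw [Datum.R, CfsgLib.Induction.classInner_indFun _ _ (irr_isClassFunction χ), classInner]
  refine mul_ne_zero (by simp) ?_
  rw [← Equiv.sum_comp (leviEquiv D.b), Fintype.sum_prod_type]
  intro h0
  refine hσ ?_
  have h0' := congrArg conj h0
  simp only [map_sum, map_mul, Complex.conj_conj, map_zero] at h0'
  rw [← h0']
  refine Finset.sum_congr rfl fun y _ => ?_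
  rw [hh, leviFun, Finset.sum_mul]
  refine Finset.sum_congr rfl fun u _ => ?_
  rw [mul_comm]
  congr 1
  rw [← map_prod]
  refine congrArg _ (Finset.prod_congr rfl fun c _ => ?_)
  rw [hσD]
  refine congrArg _ ?_
  show y c = blk b c (leviEquiv b (y, u))
  have := congrArg (fun x => x.1 c) ((leviEquiv b).symm_apply_apply (y, u))
  exact this.symm

end CfsgLib.GLCusp
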