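import Mathlib

/-!
Multisets of a graded family and their singletons.
-/

set_option autoImplicit false
set_option linter.unusedSectionVars false

namespace CfsgLib.GLCusp

universe u v

/-- Multisets of a graded family of total size `n`. -/
abbrev Mult (P : ℕ → Type u) (n : ℕ) : Type u := {s : Multiset (Σ j, P j) // (s.map Sigma.fst).sum = n}

/-- Multisets of parts smaller than `n` of total size `n`. -/
abbrev SmallMult (P : ℕ → Type u) (n : ℕ) : Type u :=
  {s : Multiset (Σ j : Fin n, P j) // (s.map fun x => (x.1 : ℕ)).sum = n}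

variable {P : ℕ → Type u} {n : ℕ}

/-- The inclusion of small parts. -/
def inclSmall (P : ℕ → Type u) (n : ℕ) (x : Σ j : Fin n, P j) : Σ j, P j := ⟨x.1, x.2⟩

theorem inclSmall_injective : Function.Injective (inclSmall P n) := by
  rintro ⟨j, a⟩ ⟨j', a'⟩ h
  obtain ⟨h1, h2⟩ := Sigma.mk.inj_iff.mp h
  obtain rfl : j = j' := Fin.ext h1
  exact congrArg (Sigma.mk j) (eq_of_heq h2)

/-- A multiset is a singleton or has small parts. -/
noncomputable def multSplit (h0 : IsEmpty (P 0)) : P n ⊕ SmallMult P n ≃ Mult P n := by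
  refine Equiv.ofBijective
    (Sum.elim (fun a => ⟨{⟨n, a⟩}, by simp⟩)
      fun s => ⟨s.1.map (inclSmall P n), by rw [Multiset.map_map]; exact s.2⟩) ⟨?_, ?_⟩
  · rintro (a | s) (b | t) h
    · have h' := Multiset.singleton_inj.mp (congrArg Subtype.val h)
      rw [eq_of_heq (Sigma.mk.inj_iff.mp h').2]
    · exfalso
      have h'' : ({⟨n, a⟩} : Multiset (Σ j, P j)) = t.1.map (inclSmall P n) := congrArg Subtype.val h
      have h' : (⟨n, a⟩ : Σ j, P j) ∈ t.1.map (inclSmall P n) := h'' ▸ Multiset.mem_singleton_self _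
      obtain ⟨x, -, hx⟩ := Multiset.mem_map.mp h'
      exact absurd (congrArg Sigma.fst hx) (ne_of_lt x.1.2)
    · exfalso
      have h'' : s.1.map (inclSmall P n) = ({⟨n, b⟩} : Multiset (Σ j, P j)) := congrArg Subtype.val h
      have h' : (⟨n, b⟩ : Σ j, P j) ∈ s.1.map (inclSmall P n) := h''.symm ▸ Multiset.mem_singleton_self _
      obtain ⟨x, -, hx⟩ := Multiset.mem_map.mp h'
      exact absurd (congrArg Sigma.fst hx) (ne_of_lt x.1.2)
    · exact congrArg Sum.inr (Subtype.ext (Multiset.map_injective inclSmall_injective (congrArg Subtype.val h)))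
  · rintro ⟨s, hs⟩
    by_cases hbig : ∃ x ∈ s, x.1 = n
    · obtain ⟨⟨j, a⟩, hx, rfl⟩ := hbig
      obtain ⟨t, rfl⟩ := Multiset.exists_cons_of_mem hx
      refine ⟨Sum.inl a, Subtype.ext ?_⟩
      have ht : t = 0 := Multiset.eq_zero_of_forall_notMem fun x hx' => by
        have hle : x.1 ≤ (t.map Sigma.fst).sum := Multiset.le_sum_of_mem (Multiset.mem_map_of_mem _ hx')
        have : x.1 = 0 := by
          simp only [Multiset.map_cons, Multiset.sum_cons] at hs
          omega
        obtain ⟨j, b⟩ := x
        obtain rfl : j = 0 := this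
        exact h0.false b
      subst ht
      rfl
    · push Not at hbig
      have hlt : ∀ x ∈ s, x.1 < n := fun x hx => by
        have hle : x.1 ≤ (s.map Sigma.fst).sum := Multiset.le_sum_of_mem (Multiset.mem_map_of_mem _ hx)
        exact lt_of_le_of_ne (hs ▸ hle) (hbig x hx)
      let s0 : Multiset (Σ j : Fin n, P j) := s.attach.map fun x => ⟨⟨x.1.1, hlt x.1 x.2⟩, x.1.2⟩
      have hs' : s0.map (inclSmall P n) = s := by
        rw [Multiset.map_map]
        exact Multiset.attach_map_val s
      have hsum : (s0.map fun x => (x.1 : ℕ)).sum = n := by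
        refine Eq.trans ?_ hs
        conv_rhs => rw [← hs', Multiset.map_map]
        rfl
      exact ⟨Sum.inr ⟨s0, hsum⟩, Subtype.ext hs'⟩

/-- Small multisets of equivalent families. -/
def smallCongr {Q : ℕ → Type v} (e : ∀ j : Fin n, P j ≃ Q j) : SmallMult P n ≃ SmallMult Q n where
  toFun s := ⟨s.1.map (Equiv.sigmaCongrRight e), by rw [Multiset.map_map]; exact s.2⟩
  invFun s := ⟨s.1.map (Equiv.sigmaCongrRight e).symm, by rw [Multiset.map_map]; exact s.2⟩
  left_inv s := Subtype.ext (by
    simp only [Multiset.map_map, Equiv.symm_comp_self, Multiset.map_id])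
  right_inv s := Subtype.ext (by
    simp only [Multiset.map_map, Equiv.self_comp_symm, Multiset.map_id])

/-- Families with as many multisets in every degree have as many elements in every degree. -/
theorem card_eq_of_mult {Q : ℕ → Type v} (hP0 : IsEmpty (P 0)) (hQ0 : IsEmpty (Q 0))
    (hPf : ∀ j, Finite (P j)) (hQf : ∀ j, Finite (Q j))
    (hM : ∀ j, 0 < j → Finite (Mult P j) ∧ Finite (Mult Q j) ∧ Nat.card (Mult P j) = Nat.card (Mult Q j)) :
    ∀ j, Nat.card (P j) = Nat.card (Q j) := by
  intro j
  induction j using Nat.strong_induction_on with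
  | _ j ih =>
  rcases Nat.eq_zero_or_pos j with rfl | hj
  · rw [Nat.card_of_isEmpty, Nat.card_of_isEmpty]
  obtain ⟨f1, f2, hcard⟩ := hM j hj
  have e : ∀ i : Fin j, P i ≃ Q i := fun i =>
    have := hPf i
    have := hQf i
    Classical.choice (Nonempty.intro ((Finite.equivFin _).trans ((finCongr (ih i i.2)).trans (Finite.equivFin _).symm)))
  have : Finite (P j ⊕ SmallMult P j) := Finite.of_equiv _ (multSplit hP0).symm
  have : Finite (Q j ⊕ SmallMult Q j) := Finite.of_equiv _ (multSplit hQ0).symm
  have : Finite (SmallMult P j) := Finite.of_injective (Sum.inr : _ → P j ⊕ SmallMult P j) Sum.inr_injective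
  have : Finite (SmallMult Q j) := Finite.of_injective (Sum.inr : _ → Q j ⊕ SmallMult Q j) Sum.inr_injective
  have := hPf j
  have := hQf j
  rw [← Nat.card_congr (multSplit hP0), ← Nat.card_congr (multSplit hQ0), Nat.card_sum, Nat.card_sum,
    Nat.card_congr (smallCongr e)] at hcard
  omega

end CfsgLib.GLCusp
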