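import Cfsg.Agent.Lib.GLCusp.Relevant

/-!
The Gelfand-Graev character is multiplicity free and has `(q - 1) q^(n-1)` constituents.
-/

set_option autoImplicit false
set_option linter.unusedSectionVars false

namespace CfsgLib.GLCusp

open Matrix Finset Cfsg CfsgLib.Characters
open scoped ComplexConjugate

variable {F : Type*} [Field F] [Fintype F] [DecidableEq F] {m : ℕ}

theorem flip_smul_idem {ψ : AddChar F ℂ} (hψ : ψ ≠ 1) {A : Type*} [Ring A] [Algebra ℂ A]
    (π : GL (Fin (m + 1)) F →* A) (E : A)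
    (hl : ∀ u ∈ uni (m + 1) F, π u * E = theta ψ u • E) (hr : ∀ u ∈ uni (m + 1) F, E * π u = theta ψ u • E)
    (g : GL (Fin (m + 1)) F) : E * π (flipGL g) * E = E * π g * E := by
  obtain ⟨u, hu, v, hv, w, d, rfl⟩ := exists_mono_form g
  have key : ∀ (a b c : GL (Fin (m + 1)) F), a ∈ uni (m + 1) F → c ∈ uni (m + 1) F →
      E * π (a * b * c) * E = (theta ψ a * theta ψ c) • (E * π b * E) := by
    intro a b c ha hc
    calc E * π (a * b * c) * E = (E * π a) * π b * (π c * E) := by simp only [map_mul, mul_assoc]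
      _ = _ := by rw [hr a ha, hl c hc, smul_mul_assoc, smul_mul_assoc, mul_smul_comm, smul_smul]
  rw [flipGL_mul, flipGL_mul, ← mul_assoc, key _ _ _ (flipGL_mem hv) (flipGL_mem hu), key _ _ _ hu hv,
    theta_flipGL, theta_flipGL, mul_comm (theta ψ u)]
  by_cases hrel : Rel w d
  · rw [flipGL_mono_of_rel hrel]
  · obtain ⟨a, ha, ha', hne⟩ := exists_witness hψ hrel
    have hzero : ∀ (b : GL (Fin (m + 1)) F) (x y : GL (Fin (m + 1)) F), x ∈ uni (m + 1) F → y ∈ uni (m + 1) F →
        x * b = b * y → theta ψ x ≠ theta ψ y → E * π b * E = 0 := by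
      intro b x y hx hy hxy hne'
      have h1 : (theta ψ x - theta ψ y) • (E * π b * E) = 0 := by
        rw [sub_smul, sub_eq_zero.mpr ?_]
        calc theta ψ x • (E * π b * E) = E * π (x * b) * E := by
              rw [map_mul, ← mul_assoc E, hr x hx, smul_mul_assoc, smul_mul_assoc]
          _ = _ := by rw [hxy, map_mul, ← mul_assoc E, mul_assoc (E * π b), hl y hy, mul_smul_comm]
      exact (smul_eq_zero_iff_right (sub_ne_zero.mpr hne')).mp h1
    set M := mono w d with hM
    rw [hzero M a (M⁻¹ * a * M) ha ha' (by group) hne.symm,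
      hzero (flipGL M) (flipGL (M⁻¹ * a * M)) (flipGL a) (flipGL_mem ha') (flipGL_mem ha)
        (by rw [← flipGL_mul, ← flipGL_mul]; congr 1; group) (by rwa [theta_flipGL, theta_flipGL])]

/-- The idempotent of the Whittaker character. -/
noncomputable def heckeE (ψ : AddChar F ℂ) : MonoidAlgebra ℂ (GL (Fin (m + 1)) F) :=
  (Nat.card (uni (m + 1) F) : ℂ)⁻¹ •
    ∑ u : uni (m + 1) F, conj (theta ψ (u : GL (Fin (m + 1)) F)) • MonoidAlgebra.of ℂ _ (u : GL (Fin (m + 1)) F)

theorem conj_theta_mul (ψ : AddChar F ℂ) {u : GL (Fin (m + 1)) F} (hu : u ∈ uni (m + 1) F) :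
    conj (theta ψ u) * theta ψ u = 1 := by
  rw [← theta_inv ψ hu, ← theta_mul ψ (inv_mem hu) hu, inv_mul_cancel]
  exact (thetaHom ψ).map_one

theorem of_mul_heckeE (ψ : AddChar F ℂ) {a : GL (Fin (m + 1)) F} (ha : a ∈ uni (m + 1) F) :
    MonoidAlgebra.of ℂ _ a * heckeE ψ = theta ψ a • heckeE ψ := by
  rw [heckeE, mul_smul_comm, Finset.mul_sum, smul_comm, Finset.smul_sum (r := theta ψ a)]
  congr 1
  refine Fintype.sum_equiv (Equiv.mulLeft ⟨a, ha⟩) _ _ fun u => ?_
  simp only [Equiv.coe_mulLeft, Subgroup.coe_mul, mul_smul_comm, ← map_mul, smul_smul]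
  congr 1
  rw [theta_mul ψ ha u.2, map_mul, ← mul_assoc, mul_comm (theta ψ a), conj_theta_mul ψ ha, one_mul]

theorem heckeE_mul_of (ψ : AddChar F ℂ) {a : GL (Fin (m + 1)) F} (ha : a ∈ uni (m + 1) F) :
    heckeE ψ * MonoidAlgebra.of ℂ _ a = theta ψ a • heckeE ψ := by
  rw [heckeE, smul_mul_assoc, Finset.sum_mul, smul_comm, Finset.smul_sum (r := theta ψ a)]
  congr 1
  refine Fintype.sum_equiv (Equiv.mulRight ⟨a, ha⟩) _ _ fun u => ?_
  simp only [Equiv.coe_mulRight, Subgroup.coe_mul, smul_mul_assoc, ← map_mul, smul_smul]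
  congr 1
  rw [theta_mul ψ u.2 ha, map_mul, mul_comm (conj (theta ψ (u : GL (Fin (m + 1)) F))), ← mul_assoc,
    mul_comm (theta ψ a), conj_theta_mul ψ ha, one_mul]

theorem heckeE_idem (ψ : AddChar F ℂ) :
    heckeE (m := m) ψ * heckeE ψ = heckeE ψ := by
  conv_lhs => arg 1; rw [heckeE]
  rw [smul_mul_assoc, Finset.sum_mul, Finset.sum_congr rfl fun u _ => by
    rw [smul_mul_assoc, of_mul_heckeE ψ u.2, smul_smul, conj_theta_mul ψ u.2, one_smul],
    Finset.sum_const, Finset.card_univ, ← Nat.cast_smul_eq_nsmul ℂ, smul_smul, Nat.card_eq_fintype_card,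
    inv_mul_cancel₀ (by simp), one_smul]

/-- The anti-automorphism of the group algebra given by the flip. -/
noncomputable def flipAlg :
    MonoidAlgebra ℂ (GL (Fin (m + 1)) F) →ₐ[ℂ] (MonoidAlgebra ℂ (GL (Fin (m + 1)) F))ᵐᵒᵖ :=
  MonoidAlgebra.lift ℂ _ _
    { toFun := fun g => MulOpposite.op (MonoidAlgebra.of ℂ _ (flipGL g))
      map_one' := by rw [flipGL_one, map_one]; rfl
      map_mul' := fun g h => by rw [flipGL_mul, map_mul]; rfl }

theorem flipAlg_of (g : GL (Fin (m + 1)) F) :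
    flipAlg (MonoidAlgebra.of ℂ _ g) = MulOpposite.op (MonoidAlgebra.of ℂ _ (flipGL g)) :=
  MonoidAlgebra.lift_of _ _

theorem flipAlg_heckeE (ψ : AddChar F ℂ) :
    flipAlg (heckeE (m := m) ψ) = MulOpposite.op (heckeE ψ) := by
  simp only [heckeE, map_smul, map_sum, flipAlg_of, ← MulOpposite.op_smul, ← Finset.op_sum]
  congr 2
  refine Fintype.sum_equiv
    { toFun := fun u => ⟨flipGL (u : GL (Fin (m + 1)) F), flipGL_mem u.2⟩
      invFun := fun u => ⟨flipGL (u : GL (Fin (m + 1)) F), flipGL_mem u.2⟩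
      left_inv := fun u => Subtype.ext (flipGL_flipGL _)
      right_inv := fun u => Subtype.ext (flipGL_flipGL _) } _ _ fun u => ?_
  simp only [Equiv.coe_fn_mk, theta_flipGL]

theorem hecke_commute {ψ : AddChar F ℂ} (hψ : ψ ≠ 1) (g h : GL (Fin (m + 1)) F) :
    (heckeE ψ * MonoidAlgebra.of ℂ _ g * heckeE ψ) * (heckeE ψ * MonoidAlgebra.of ℂ _ h * heckeE ψ) =
      (heckeE ψ * MonoidAlgebra.of ℂ _ h * heckeE ψ) * (heckeE ψ * MonoidAlgebra.of ℂ _ g * heckeE ψ) := by
  set E : MonoidAlgebra ℂ (GL (Fin (m + 1)) F) := heckeE ψ with hE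
  set X : GL (Fin (m + 1)) F → MonoidAlgebra ℂ (GL (Fin (m + 1)) F) :=
    fun g => E * MonoidAlgebra.of ℂ _ g * E with hX
  have hfix : ∀ g, flipAlg (X g) = MulOpposite.op (X g) := fun g => by
    simp only [hX, map_mul, hE, flipAlg_heckeE, flipAlg_of, ← MulOpposite.op_mul, ← mul_assoc]
    rw [flip_smul_idem hψ _ _ (fun u hu => of_mul_heckeE ψ hu) (fun u hu => heckeE_mul_of ψ hu)]
  have hprod : X g * X h = (Nat.card (uni (m + 1) F) : ℂ)⁻¹ •
      ∑ u : uni (m + 1) F, conj (theta ψ (u : GL (Fin (m + 1)) F)) • X (g * u * h) := by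
    have e1 : X g * X h = E * MonoidAlgebra.of ℂ _ g * E * (MonoidAlgebra.of ℂ _ h * E) := by
      simp only [hX, mul_assoc]
      rw [← mul_assoc E E, heckeE_idem]
    have e2 : E = (Nat.card (uni (m + 1) F) : ℂ)⁻¹ •
        ∑ u : uni (m + 1) F, conj (theta ψ (u : GL (Fin (m + 1)) F)) • MonoidAlgebra.of ℂ _ (u : GL (Fin (m + 1)) F) := hE
    rw [e1]
    conv_lhs => arg 1; arg 2; rw [e2]
    simp only [hX, mul_smul_comm, smul_mul_assoc, Finset.mul_sum, Finset.sum_mul, map_mul, mul_assoc]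
  have hfix2 : flipAlg (X g * X h) = MulOpposite.op (X g * X h) := by
    rw [hprod]
    simp only [map_smul, map_sum, hfix, MulOpposite.op_smul, Finset.op_sum]
  rw [map_mul, hfix, hfix, ← MulOpposite.op_mul] at hfix2
  exact (MulOpposite.op_injective hfix2).symm

theorem whit_le_one {ψ : AddChar F ℂ} (hψ : ψ ≠ 1) (χ : IrrCharacter (GL (Fin (m + 1)) F)) :
    whit ψ (χ : GL (Fin (m + 1)) F → ℂ) = 0 ∨ whit ψ (χ : GL (Fin (m + 1)) F → ℂ) = 1 := by
  obtain ⟨_, N, ρ, hρ, rfl⟩ := χ
  set π := ρ.asAlgebraHom with hπ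
  set e : Module.End ℂ (Fin N → ℂ) := π (heckeE ψ) with he
  have hee : IsIdempotentElem e := by
    show e * e = e
    rw [he, ← map_mul, heckeE_idem]
  obtain ⟨W, hW⟩ : ∃ W, LinearMap.IsProj W e := ⟨_, (LinearMap.isProj_range_iff_isIdempotentElem e).mpr hee⟩
  have htr : whit ψ ρ.character = (Module.finrank ℂ W : ℂ) := by
    rw [← hW.trace, he, heckeE, map_smul, map_sum, map_smul, map_sum]
    simp only [map_smul, hπ, Representation.asAlgebraHom_of, smul_eq_mul, whit, Representation.character]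
    congr 1
    exact Finset.sum_congr rfl fun u _ => mul_comm _ _
  show whit ψ ρ.character = 0 ∨ whit ψ ρ.character = 1
  rw [htr]
  suffices Module.finrank ℂ W ≤ 1 by
    rcases Nat.le_one_iff_eq_zero_or_eq_one.mp this with h | h <;> simp [h]
  by_cases hW0 : W = ⊥
  · rw [hW0, finrank_bot]; exact Nat.zero_le 1
  have hirr := ((isIrreducible_iff ρ).mp hρ).2
  let a : GL (Fin (m + 1)) F → Module.End ℂ W := fun g =>
    LinearMap.codRestrict W ((e * ρ g).comp W.subtype) fun w => hW.map_mem _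
  have ha : ∀ g (w : W), ((a g w : W) : Fin N → ℂ) = e (ρ g w) := fun g w => rfl
  have hcomm : ∀ g h, a g * a h = a h * a g := by
    intro g h
    refine LinearMap.ext fun w => Subtype.ext ?_
    have hc := congrArg (fun T : Module.End ℂ (Fin N → ℂ) => T (w : Fin N → ℂ))
      (congrArg π (hecke_commute hψ g h))
    simp only [map_mul, hπ, Representation.asAlgebraHom_of, Module.End.mul_apply, ← he] at hc
    have hid : ∀ x, e (e x) = e x := fun x => hW.map_id _ (hW.map_mem x)
    rw [hid, hid, hW.map_id _ w.2] at hc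
    exact hc
  have hspan : ∀ w : W, w ≠ 0 → Submodule.span ℂ (Set.range fun g => a g w) = ⊤ := by
    intro w hw
    have hU : Submodule.span ℂ (Set.range fun g => ρ g (w : Fin N → ℂ)) = ⊤ := by
      refine (hirr _ fun g v hv => ?_).resolve_left ?_
      · induction hv using Submodule.span_induction with
        | mem x hx =>
          obtain ⟨h, rfl⟩ := hx
          exact Submodule.subset_span ⟨g * h, by simp⟩
        | zero => simp
        | add x y _ _ hx hy => rw [map_add]; exact add_mem hx hy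
        | smul c x _ hx => rw [map_smul]; exact Submodule.smul_mem _ c hx
      · intro hbot
        have : (w : Fin N → ℂ) ∈ Submodule.span ℂ (Set.range fun g => ρ g (w : Fin N → ℂ)) :=
          Submodule.subset_span ⟨1, by simp⟩
        rw [hbot, Submodule.mem_bot] at this
        exact hw (Subtype.ext this)
    refine Submodule.map_injective_of_injective W.injective_subtype ?_
    rw [Submodule.map_span, Submodule.map_subtype_top, ← Set.range_comp]
    have h1 := congrArg (Submodule.map e) hU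
    rw [Submodule.map_span, ← Set.range_comp] at h1
    refine Eq.trans ?_ (h1.trans ?_)
    · rfl
    · refine le_antisymm ?_ fun x hx => ⟨x, Submodule.mem_top, hW.map_id x hx⟩
      rintro _ ⟨x, -, rfl⟩
      exact hW.map_mem x
  have : Nontrivial W := Submodule.nontrivial_iff_ne_bot.mpr hW0
  obtain ⟨w, hw⟩ := exists_ne (0 : W)
  have hscalar : ∀ g, ∃ c : ℂ, a g = c • 1 := by
    intro g
    obtain ⟨c, hc⟩ := Module.End.exists_eigenvalue (a g)
    obtain ⟨w₀, hw₀⟩ := hc.exists_hasEigenvector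
    refine ⟨c, LinearMap.ext fun x => ?_⟩
    have hle : Submodule.span ℂ (Set.range fun h => a h w₀) ≤ Module.End.eigenspace (a g) c := by
      rw [Submodule.span_le]
      rintro _ ⟨h, rfl⟩
      rw [SetLike.mem_coe, Module.End.mem_eigenspace_iff, ← Module.End.mul_apply, hcomm, Module.End.mul_apply,
        hw₀.apply_eq_smul, map_smul]
    rw [hspan w₀ hw₀.2] at hle
    exact Module.End.mem_eigenspace_iff.mp (hle Submodule.mem_top)
  refine finrank_le_one w fun x => ?_
  have hx : x ∈ Submodule.span ℂ {w} := by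
    have hle : Submodule.span ℂ (Set.range fun g => a g w) ≤ Submodule.span ℂ {w} := by
      rw [Submodule.span_le]
      rintro _ ⟨g, rfl⟩
      obtain ⟨c, hc⟩ := hscalar g
      simp only [hc, LinearMap.smul_apply, Module.End.one_apply, SetLike.mem_coe]
      exact Submodule.smul_mem _ _ (Submodule.mem_span_singleton_self w)
    rw [hspan w hw] at hle
    exact hle Submodule.mem_top
  exact Submodule.mem_span_singleton.mp hx

/-! ### The number of generic characters -/

/-- The Whittaker character extended by zero. -/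
noncomputable def thetaExt (ψ : AddChar F ℂ) : GL (Fin (m + 1)) F → ℂ := extendByZero (uni (m + 1) F) (thetaHom ψ)

/-- The summand of the norm of the Gelfand-Graev character. -/
noncomputable def ggTerm (ψ : AddChar F ℂ) (g : GL (Fin (m + 1)) F) : ℂ :=
  ∑ x : GL (Fin (m + 1)) F, thetaExt ψ x * conj (thetaExt ψ (g⁻¹ * x * g))

theorem thetaExt_conj (ψ : AddChar F ℂ) {p : GL (Fin (m + 1)) F} (hp : p ∈ uni (m + 1) F)
    (g : GL (Fin (m + 1)) F) : thetaExt ψ (p * g * p⁻¹) = thetaExt ψ g :=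
  CfsgLib.Induction.extendByZero_conj _ (isClassFunction_of_isCharacter
    (CfsgLib.Induction.isCharacter_monoidHom (thetaHom ψ))) ⟨p, hp⟩ g

theorem sum_whit_sq {ψ : AddChar F ℂ} (hψ : ψ ≠ 1) :
    ∑ χ : IrrCharacter (GL (Fin (m + 1)) F), whit ψ (χ : GL (Fin (m + 1)) F → ℂ) * conj (whit ψ (χ : GL (Fin (m + 1)) F → ℂ)) =
      ((Fintype.card F - 1) * Fintype.card F ^ m : ℕ) := by
  classical
  set Γ := indFun (uni (m + 1) F) (thetaHom ψ) with hΓ
  have hΓc : IsCharacter _ Γ := CfsgLib.Induction.isCharacter_indFun _ (CfsgLib.Induction.isCharacter_monoidHom _)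
  have hmult : ∀ χ : IrrCharacter (GL (Fin (m + 1)) F),
      classInner Γ (χ : GL (Fin (m + 1)) F → ℂ) = conj (whit ψ (χ : GL (Fin (m + 1)) F → ℂ)) := by
    intro χ
    rw [hΓ, CfsgLib.Induction.classInner_indFun _ _ (irr_isClassFunction χ), classInner, whit, map_mul, map_inv₀,
      map_natCast, map_sum]
    congr 1
    refine Finset.sum_congr rfl fun u _ => ?_
    rw [map_mul, Complex.conj_conj, mul_comm]
    rfl
  have hnorm := classInner_eq_sum_mul (φ := Γ) (isClassFunction_of_isCharacter hΓc)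
  simp only [hmult, Complex.conj_conj] at hnorm
  rw [Finset.sum_congr rfl fun χ _ => mul_comm _ _, ← hnorm]
  have hGG : classInner Γ Γ = ((Nat.card (uni (m + 1) F) : ℂ) * Nat.card (uni (m + 1) F))⁻¹ *
      ∑ g : GL (Fin (m + 1)) F, ggTerm ψ g := by
    rw [hΓ, CfsgLib.Induction.classInner_indFun _ _ (isClassFunction_of_isCharacter hΓc)]
    simp only [classInner]
    rw [← CfsgLib.Induction.sum_extendByZero_mul (uni (m + 1) F) (thetaHom ψ) (fun x => conj (Γ x)), mul_inv, mul_assoc]
    congr 1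
    simp only [ggTerm, hΓ, CfsgLib.Induction.indFun_apply, map_mul, map_inv₀, map_natCast, map_sum, Finset.mul_sum]
    rw [Finset.sum_comm]
    refine Finset.sum_congr rfl fun g _ => Finset.sum_congr rfl fun x _ => ?_
    simp only [thetaExt]
    ring
  have hinv : ∀ a ∈ uni (m + 1) F, ∀ b ∈ uni (m + 1) F, ∀ g, ggTerm ψ (a * g * b) = ggTerm ψ g := by
    intro a ha b hb g
    simp only [ggTerm]
    rw [← Equiv.sum_comp (MulAut.conj a).toEquiv]
    refine Finset.sum_congr rfl fun x _ => ?_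
    simp only [MulEquiv.toEquiv_eq_coe, EquivLike.coe_coe, MulAut.conj_apply]
    rw [thetaExt_conj ψ ha, show (a * g * b)⁻¹ * (a * x * a⁻¹) * (a * g * b) = b⁻¹ * (g⁻¹ * x * g) * b⁻¹⁻¹ by group,
      thetaExt_conj ψ (inv_mem hb)]
  have hsupp : ∀ (w : Equiv.Perm (Fin (m + 1))) (d : Fin (m + 1) → Fˣ), ¬ Rel w d → ggTerm ψ (mono w d) = 0 := by
    intro w d hrel
    obtain ⟨a, ha, ha', hne⟩ := exists_witness hψ hrel
    set M := mono w d
    refine eq_zero_of_eq_mul (c := theta ψ a * conj (theta ψ (M⁻¹ * a * M))) ?_ ?_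
    · intro h1
      refine hne.symm ?_
      calc theta ψ a = theta ψ a * (conj (theta ψ (M⁻¹ * a * M)) * theta ψ (M⁻¹ * a * M)) := by
            rw [conj_theta_mul ψ ha', mul_one]
        _ = _ := by rw [← mul_assoc, h1, one_mul]
    · simp only [ggTerm]
      rw [Finset.mul_sum, ← Equiv.sum_comp (Equiv.mulLeft a)]
      refine Finset.sum_congr rfl fun x _ => ?_
      simp only [Equiv.coe_mulLeft]
      rw [show M⁻¹ * (a * x) * M = (M⁻¹ * a * M) * (M⁻¹ * x * M) by group]
      have hext : ∀ (p : GL (Fin (m + 1)) F), p ∈ uni (m + 1) F → ∀ y, thetaExt ψ (p * y) = theta ψ p * thetaExt ψ y := by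
        intro p hp y
        by_cases hy : y ∈ uni (m + 1) F
        · rw [thetaExt, CfsgLib.Induction.extendByZero_mem _ _ (mul_mem hp hy),
            CfsgLib.Induction.extendByZero_mem _ _ hy]
          exact theta_mul ψ hp hy
        · rw [thetaExt, CfsgLib.Induction.extendByZero_notMem _ _ fun h => hy ((Subgroup.mul_mem_cancel_left _ hp).mp h),
            CfsgLib.Induction.extendByZero_notMem _ _ hy, mul_zero]
      rw [hext a ha, hext _ ha', map_mul]
      ring
  have hD := sum_doubleCoset (uni (m + 1) F) (uni (m + 1) F) (ggTerm ψ) hinv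
    (fun p : {p : Equiv.Perm (Fin (m + 1)) × (Fin (m + 1) → Fˣ) // Rel p.1 p.2} => mono p.1.1 p.1.2) (fun _ => 1) 1
    (fun g hg => by
      obtain ⟨u, hu, v, hv, w, d, rfl⟩ := exists_mono_form g
      rw [hinv u hu v hv] at hg
      have hrel : Rel w d := by
        by_contra h
        exact hg (hsupp w d h)
      have : Subsingleton {p : {p : Equiv.Perm (Fin (m + 1)) × (Fin (m + 1) → Fˣ) // Rel p.1 p.2} //
          ∃ x ∈ uni (m + 1) F, ∃ y ∈ uni (m + 1) F, u * mono w d * v = x * mono p.1.1 p.1.2 * y} := by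
        refine ⟨fun p q => ?_⟩
        have hp : ∀ p : {p : {p : Equiv.Perm (Fin (m + 1)) × (Fin (m + 1) → Fˣ) // Rel p.1 p.2} //
            ∃ x ∈ uni (m + 1) F, ∃ y ∈ uni (m + 1) F, u * mono w d * v = x * mono p.1.1 p.1.2 * y},
            p.1.1 = (w, d) := by
          rintro ⟨⟨⟨w', d'⟩, -⟩, x, hx, y, hy, he⟩
          have h' : mono w' d' = (x⁻¹ * u) * mono w d * (v * y⁻¹) := by
            calc mono w' d' = x⁻¹ * (x * mono w' d' * y) * y⁻¹ := by group
              _ = x⁻¹ * (u * mono w d * v) * y⁻¹ := by rw [he]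
              _ = _ := by group
          obtain ⟨h1, h2⟩ := mono_form_unique (mul_mem (inv_mem hx) hu) (mul_mem hv (inv_mem hy)) h'
          exact Prod.ext h1 h2
        exact Subtype.ext (Subtype.ext ((hp p).trans (hp q).symm))
      exact Nat.card_eq_one_iff_unique.mpr ⟨this, ⟨⟨⟨(w, d), hrel⟩, u, hu, v, hv, rfl⟩⟩⟩)
    (fun p => by
      obtain ⟨⟨w, d⟩, hrel⟩ := p
      rw [one_mul, ggTerm, ← Finset.sum_subset (Finset.subset_univ
        ((Finset.univ : Finset (dStab (uni (m + 1) F) (uni (m + 1) F) (mono w d))).map (Function.Embedding.subtype _)))]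
      · rw [Finset.sum_map, Finset.sum_congr rfl (g := fun _ => (1 : ℂ)), Finset.sum_const, Finset.card_univ,
          nsmul_eq_mul, mul_one, Nat.card_eq_fintype_card]
        intro x _
        obtain ⟨h1, h2⟩ := mem_dStab.mp x.2
        simp only [Function.Embedding.subtype_apply]
        rw [thetaExt, CfsgLib.Induction.extendByZero_mem _ _ h1, CfsgLib.Induction.extendByZero_mem _ _ h2]
        show theta ψ (x : GL (Fin (m + 1)) F) * conj (theta ψ _) = 1
        rw [theta_of_rel ψ hrel h1 h2, mul_comm, conj_theta_mul ψ h1]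
      · intro x _ hx
        by_cases h1 : x ∈ uni (m + 1) F
        · by_cases h2 : (mono w d)⁻¹ * x * mono w d ∈ uni (m + 1) F
          · exact absurd (Finset.mem_map.mpr ⟨(⟨x, mem_dStab.mpr ⟨h1, h2⟩⟩ :
              dStab (uni (m + 1) F) (uni (m + 1) F) (mono w d)), Finset.mem_univ _, rfl⟩) hx
          · simp only [thetaExt, CfsgLib.Induction.extendByZero_notMem _ _ h2, map_zero, mul_zero]
        · simp only [thetaExt, CfsgLib.Induction.extendByZero_notMem _ _ h1, zero_mul])
  rw [Nat.cast_one, one_mul, Finset.sum_const, Finset.card_univ, nsmul_eq_mul, mul_one,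
    ← Nat.card_eq_fintype_card, card_rel] at hD
  have hU : (Nat.card (uni (m + 1) F) : ℂ) ≠ 0 := by simp
  rw [hGG, hD]
  field_simp

theorem card_generic {ψ : AddChar F ℂ} (hψ : ψ ≠ 1) :
    Nat.card {χ : IrrCharacter (GL (Fin (m + 1)) F) // whit ψ (χ : GL (Fin (m + 1)) F → ℂ) ≠ 0} =
      (Fintype.card F - 1) * Fintype.card F ^ m := by
  classical
  have h := sum_whit_sq (m := m) hψ
  rw [Finset.sum_congr rfl (g := fun χ : IrrCharacter (GL (Fin (m + 1)) F) =>
    if whit ψ (χ : GL (Fin (m + 1)) F → ℂ) ≠ 0 then (1 : ℂ) else 0)] at h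
  · rw [Finset.sum_boole] at h
    rw [Nat.card_eq_fintype_card, Fintype.card_subtype]
    exact_mod_cast h
  · intro χ _
    rcases whit_le_one hψ χ with h0 | h0 <;> simp [h0]

end CfsgLib.GLCusp
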