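import Cfsg.Agent.Lib.GLCusp.Mackey
import Cfsg.Agent.Lib.GLCusp.Hecke

/-!
A parabolically induced cuspidal datum has exactly one generic constituent.
-/

set_option autoImplicit false
set_option linter.unusedSectionVars false

namespace CfsgLib.GLCusp

open Matrix Finset Cfsg CfsgLib.Characters
open scoped ComplexConjugate

variable {F : Type*} [Field F] [Fintype F] [DecidableEq F]

theorem whit_cusp_eq_one {n : ℕ} {ψ : AddChar F ℂ} (hψ : ψ ≠ 1) (χ : Cusp F n) :
    whit ψ (χ.1 : GL (Fin n) F → ℂ) = 1 := by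
  obtain ⟨χ, hn, hχ⟩ := χ
  obtain ⟨m, rfl⟩ : ∃ m, n = m + 1 := ⟨n - 1, by omega⟩
  refine (whit_le_one hψ χ).resolve_left fun h0 => irr_one_ne_zero χ ?_
  rw [degree_of_cusp hψ hn (irr_isClassFunction χ) hχ, h0, zero_mul]

variable {m : ℕ}

/-- The offset of a block in the reversed order. -/
def Datum.off (D : Datum F (m + 1)) (c : Fin D.k) : ℕ := ∑ d ∈ Finset.Ioi c, (D.t d).1

theorem Datum.off_add_le (D : Datum F (m + 1)) {c d : Fin D.k} (h : c < d) : D.off d + (D.t d).1 ≤ D.off c := by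
  rw [Datum.off, add_comm, ← Finset.sum_insert (f := fun d => (D.t d).1) Finset.notMem_Ioi_self]
  refine Finset.sum_le_sum_of_subset fun x hx => ?_
  simp only [Finset.mem_insert, Finset.mem_Ioi] at hx ⊢
  rcases hx with rfl | hx
  · exact h
  · exact h.trans hx

theorem Datum.sum_sizes (D : Datum F (m + 1)) : ∑ c, (D.t c).1 = m + 1 := by
  rw [← Finset.sum_congr rfl fun c _ => D.card_block c, ← Fintype.card_sigma,
    Fintype.card_congr (Equiv.sigmaFiberEquiv D.b), Fintype.card_fin]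

theorem Datum.off_lt (D : Datum F (m + 1)) (c : Fin D.k) : D.off c + (D.t c).1 ≤ m + 1 := by
  rw [Datum.off, add_comm, ← Finset.sum_insert (f := fun d => (D.t d).1) Finset.notMem_Ioi_self]
  exact le_of_le_of_eq (Finset.sum_le_sum_of_subset (Finset.subset_univ _)) D.sum_sizes

/-- The indices as block and position. -/
def Datum.coord (D : Datum F (m + 1)) : (Σ c, Fin (D.t c).1) ≃ Fin (m + 1) :=
  (Equiv.sigmaCongrRight D.e).trans (Equiv.sigmaFiberEquiv D.b)

theorem Datum.b_coord (D : Datum F (m + 1)) (c : Fin D.k) (j : Fin (D.t c).1) : D.b (D.coord ⟨c, j⟩) = c :=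
  (D.e c j).2

theorem Datum.exists_rev (D : Datum F (m + 1)) :
    ∃ w : Equiv.Perm (Fin (m + 1)), ∀ c j, (w (D.coord ⟨c, j⟩) : ℕ) = D.off c + j := by
  let f : (Σ c, Fin (D.t c).1) → Fin (m + 1) := fun x =>
    ⟨D.off x.1 + x.2, by have := D.off_lt x.1; have := x.2.2; omega⟩
  have hinj : Function.Injective f := by
    rintro ⟨c, j⟩ ⟨c', j'⟩ h
    have h' : D.off c + (j : ℕ) = D.off c' + (j' : ℕ) := congrArg Fin.val h
    rcases lt_trichotomy c c' with hlt | rfl | hlt
    · have := D.off_add_le hlt; have := j'.2; omega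
    · have : j = j' := Fin.ext (by omega)
      rw [this]
    · have := D.off_add_le hlt; have := j.2; omega
  have hbij : Function.Bijective f :=
    (Fintype.bijective_iff_injective_and_card f).mpr ⟨hinj, by rw [Fintype.card_congr D.coord]⟩
  exact ⟨D.coord.symm.trans (Equiv.ofBijective f hbij), fun c j => by simp [f]⟩

/-- The summand of the multiplicity of the Whittaker character in an induced datum. -/
noncomputable def whitTerm (ψ : AddChar F ℂ) (D : Datum F (m + 1)) (g : GL (Fin (m + 1)) F) : ℂ :=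
  ∑ x : GL (Fin (m + 1)) F, D.ext (g⁻¹ * x * g) * conj (thetaExt ψ x)

theorem whit_R_eq (ψ : AddChar F ℂ) (D : Datum F (m + 1)) :
    whit ψ D.R = ((Nat.card (uni (m + 1) F) : ℂ) * Nat.card (par D.b : Subgroup (GL (Fin (m + 1)) F)))⁻¹ *
      ∑ g, whitTerm ψ D g := by
  rw [whit, mul_inv, mul_assoc]
  congr 1
  simp only [whitTerm, Datum.R_apply, Finset.mul_sum, Finset.sum_mul]
  rw [Finset.sum_comm]
  refine Finset.sum_congr rfl fun g _ => ?_
  rw [← Finset.sum_subset (Finset.subset_univ ((Finset.univ : Finset (uni (m + 1) F)).map (Function.Embedding.subtype _))),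
    Finset.sum_map]
  · refine Finset.sum_congr rfl fun u _ => ?_
    simp only [Function.Embedding.subtype_apply]
    rw [show conj (thetaExt ψ (u : GL (Fin (m + 1)) F)) = conj (theta ψ (u : GL (Fin (m + 1)) F)) from by
      rw [thetaExt, CfsgLib.Induction.extendByZero_mem _ _ u.2]; rfl]
    ring
  · intro x _ hx
    rw [thetaExt, CfsgLib.Induction.extendByZero_notMem _ _ fun h => hx (Finset.mem_map.mpr
      ⟨⟨x, h⟩, Finset.mem_univ _, rfl⟩), map_zero, mul_zero, mul_zero]

theorem whitTerm_invariant (ψ : AddChar F ℂ) (D : Datum F (m + 1)) {a : GL (Fin (m + 1)) F}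
    (ha : a ∈ uni (m + 1) F) {p : GL (Fin (m + 1)) F} (hp : p ∈ par D.b) (g : GL (Fin (m + 1)) F) :
    whitTerm ψ D (a * g * p) = whitTerm ψ D g := by
  simp only [whitTerm]
  rw [← Equiv.sum_comp (MulAut.conj a).toEquiv]
  refine Finset.sum_congr rfl fun x _ => ?_
  simp only [MulEquiv.toEquiv_eq_coe, EquivLike.coe_coe, MulAut.conj_apply]
  rw [thetaExt_conj ψ ha, show (a * g * p)⁻¹ * (a * x * a⁻¹) * (a * g * p) = p⁻¹ * (g⁻¹ * x * g) * p⁻¹⁻¹ by group,
    D.ext_conj (inv_mem hp)]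

theorem whitTerm_eq_zero {ψ : AddChar F ℂ} (hψ : ψ ≠ 1) (D : Datum F (m + 1)) (w : Equiv.Perm (Fin (m + 1)))
    {a a' : Fin (m + 1)} (haa : (a : ℕ) + 1 = a') (hb : D.b (w.symm a) < D.b (w.symm a')) :
    whitTerm ψ D (pm w) = 0 := by
  have hne : a ≠ a' := fun e => by rw [e] at haa; omega
  obtain ⟨t, ht⟩ := AddChar.ne_one_iff.mp hψ
  set x := elMat hne t with hx
  have hxU : x ∈ uni (m + 1) F := elMat_mem _ (show a < a' by rw [Fin.lt_def]; omega) t
  have hxP : (pm w)⁻¹ * x * pm w ∈ patGroup (unipPat D.b) := by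
    intro i j hn
    rw [inv_pm_conj_apply, hx, elMat_apply, if_neg, add_zero]
    · simp [Matrix.one_apply]
    · rintro ⟨rfl, rfl⟩
      exact hn (by simpa [unipPat] using hb)
  refine eq_zero_of_eq_mul (c := conj (theta ψ x)) ?_ ?_
  · intro h1
    refine ht ?_
    have := congrArg conj h1
    rw [Complex.conj_conj, map_one, theta, hx, supSum_elMat, if_pos haa] at this
    exact this
  · simp only [whitTerm]
    rw [Finset.mul_sum, ← Equiv.sum_comp (Equiv.mulRight x)]
    refine Finset.sum_congr rfl fun y _ => ?_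
    simp only [Equiv.coe_mulRight]
    have hpar := unip_le_par D.b hxP
    have hext : D.ext ((pm w)⁻¹ * (y * x) * pm w) = D.ext ((pm w)⁻¹ * y * pm w) := by
      rw [show (pm w)⁻¹ * (y * x) * pm w = ((pm w)⁻¹ * y * pm w) * ((pm w)⁻¹ * x * pm w) by group]
      by_cases hy : (pm w)⁻¹ * y * pm w ∈ par D.b
      · rw [Datum.ext, CfsgLib.Induction.extendByZero_mem _ _ (mul_mem hy hpar),
          CfsgLib.Induction.extendByZero_mem _ _ hy]
        refine Finset.prod_congr rfl fun c _ => ?_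
        rw [show (⟨_, mul_mem hy hpar⟩ : (par D.b : Subgroup (GL (Fin (m + 1)) F))) = ⟨_, hy⟩ * ⟨_, hpar⟩ from rfl,
          map_mul, (blk_eq_one_iff D.b ⟨_, hpar⟩).mpr hxP c, mul_one]
      · rw [Datum.ext, CfsgLib.Induction.extendByZero_notMem _ _ hy,
          CfsgLib.Induction.extendByZero_notMem _ _ fun h => hy ((Subgroup.mul_mem_cancel_right _ hpar).mp h)]
    rw [hext]
    by_cases hy : y ∈ uni (m + 1) F
    · rw [thetaExt, CfsgLib.Induction.extendByZero_mem _ _ (mul_mem hy hxU),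
        CfsgLib.Induction.extendByZero_mem _ _ hy]
      show _ * conj (theta ψ (y * x)) = _ * (_ * conj (theta ψ y))
      rw [theta_mul ψ hy hxU, map_mul]
      ring
    · rw [thetaExt, CfsgLib.Induction.extendByZero_notMem _ _ hy,
        CfsgLib.Induction.extendByZero_notMem _ _ fun h => hy ((Subgroup.mul_mem_cancel_right _ hxU).mp h)]
      simp

theorem exists_uni_pm_par {k : ℕ} (b : Fin (m + 1) → Fin k) (g : GL (Fin (m + 1)) F) :
    ∃ a ∈ uni (m + 1) F, ∃ (w : Equiv.Perm (Fin (m + 1))), ∃ p ∈ par b, g = a * pm w * p := by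
  set π := Tuple.sort b
  obtain ⟨u, hu, v, hv, w, d, he⟩ := exists_mono_form (g * pm π : GL (Fin (m + 1)) F)
  set δ : GL (Fin (m + 1)) F := (pm w)⁻¹ * mono w d with hδ
  have hup : δ * v ∈ Cfsg.upperTriangularGL (m + 1) F := by
    refine mul_mem (fun i j hij => ?_) (fun i j hij => ?_)
    · rw [hδ, mono, inv_mul_cancel_left]
      exact Matrix.diagonal_apply_ne _ (ne_of_gt hij)
    · rw [hv i j (not_lt.mpr (le_of_lt hij)), Matrix.one_apply_ne (show i ≠ j from ne_of_gt hij)]
  refine ⟨u, hu, w * π⁻¹, reGL π (δ * v), reGL_mem_par b hup, ?_⟩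
  rw [← pm_conj, ← pm_mul, ← pm_inv, hδ]
  calc g = (g * pm π) * (pm π)⁻¹ := by group
    _ = u * mono w d * v * (pm π)⁻¹ := by rw [he]
    _ = _ := by group

theorem whit_R {ψ : AddChar F ℂ} (hψ : ψ ≠ 1) (D : Datum F (m + 1)) : whit ψ D.R = 1 := by
  classical
  obtain ⟨w₀, hw₀⟩ := D.exists_rev
  have hcoord : ∀ x : Fin (m + 1), ∃ c j, D.coord ⟨c, j⟩ = x := fun x =>
    ⟨(D.coord.symm x).1, (D.coord.symm x).2, D.coord.apply_symm_apply x⟩
  have hanti₀ : ∀ a a' : Fin (m + 1), a ≤ a' → D.b (w₀.symm a') ≤ D.b (w₀.symm a) := by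
    intro a a' h
    obtain ⟨c, j, hc⟩ := hcoord (w₀.symm a)
    obtain ⟨c', j', hc'⟩ := hcoord (w₀.symm a')
    rw [← hc, ← hc', D.b_coord, D.b_coord]
    by_contra hlt
    push Not at hlt
    have h1 := hw₀ c j
    have h2 := hw₀ c' j'
    rw [hc, Equiv.apply_symm_apply] at h1
    rw [hc', Equiv.apply_symm_apply] at h2
    have := D.off_add_le hlt
    have := j'.2
    have h3 : (a : ℕ) ≤ a' := h
    omega
  have hsame : ∀ w : Equiv.Perm (Fin (m + 1)), whitTerm ψ D (pm w) ≠ 0 →
      ∀ x, D.b ((w₀⁻¹ * w) x) = D.b x := by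
    intro w hw
    have hanti : Antitone (D.b ∘ w.symm) := Fin.antitone_iff_succ_le.mpr fun i => by
      by_contra hlt
      push Not at hlt
      exact hw (whitTerm_eq_zero hψ D w (a := i.castSucc) (a' := i.succ) (by simp) hlt)
    have h1 : (Fin.rev ∘ D.b) ∘ w.symm = (Fin.rev ∘ D.b) ∘ w₀.symm := by
      refine Tuple.unique_monotone (f := Fin.rev ∘ D.b) ?_ ?_
      · exact fun a a' h => Fin.rev_le_rev.mpr (hanti h)
      · exact fun a a' h => Fin.rev_le_rev.mpr (hanti₀ a a' h)
    intro x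
    have h2 := congrFun h1 (w x)
    simp only [Function.comp_apply, Equiv.symm_apply_apply] at h2
    rw [Equiv.Perm.mul_apply, Equiv.Perm.inv_def]
    exact (Fin.rev_injective h2).symm
  set Q := dStab (uni (m + 1) F) (par D.b) (pm w₀ : GL (Fin (m + 1)) F) with hQ
  have hQ1 : ∀ x : Q, (x : GL (Fin (m + 1)) F) ∈ uni (m + 1) F := fun x => (mem_dStab.mp x.2).1
  have hQ2 : ∀ x : Q, (pm w₀)⁻¹ * (x : GL (Fin (m + 1)) F) * pm w₀ ∈ par D.b := fun x => (mem_dStab.mp x.2).2
  have hentry : ∀ (x : Q) c j j', (reGL (D.e c).symm (blk D.b c ⟨_, hQ2 x⟩)).val j j' =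
      (x : GL (Fin (m + 1)) F).val (w₀ (D.coord ⟨c, j⟩)) (w₀ (D.coord ⟨c, j'⟩)) := fun x c j j' => by
    rw [reGL_apply, blk_apply, inv_pm_conj_apply]
    rfl
  have hblock : ∀ (x : Q) c, reGL (D.e c).symm (blk D.b c ⟨_, hQ2 x⟩) ∈ uni (D.t c).1 F := by
    intro x c j j' hn
    rw [hentry, hQ1 x _ _ fun hlt => hn ?_]
    · simp [Matrix.one_apply]
    · have h1 := hw₀ c j
      have h2 := hw₀ c j'
      have h3 : (w₀ (D.coord ⟨c, j⟩) : ℕ) < w₀ (D.coord ⟨c, j'⟩) := hlt
      show (j : ℕ) < j'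
      omega
  let Ψ : Q →* ∀ c, uni (D.t c).1 F :=
    { toFun := fun x c => ⟨_, hblock x c⟩
      map_one' := by
        funext c; refine Subtype.ext ?_
        show reGL (D.e c).symm (blk D.b c ⟨_, hQ2 1⟩) = 1
        rw [show (⟨_, hQ2 1⟩ : (par D.b : Subgroup (GL (Fin (m + 1)) F))) = 1 from Subtype.ext (by simp),
          map_one, map_one]
      map_mul' := fun x y => by
        funext c; refine Subtype.ext ?_
        show reGL (D.e c).symm (blk D.b c ⟨_, hQ2 (x * y)⟩) =
          reGL (D.e c).symm (blk D.b c ⟨_, hQ2 x⟩) * reGL (D.e c).symm (blk D.b c ⟨_, hQ2 y⟩)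
        rw [← map_mul, ← map_mul]
        exact congrArg (fun p => reGL (D.e c).symm (blk D.b c p)) (Subtype.ext (by simp [mul_assoc])) }
  have hΨ : Function.Surjective Ψ := by
    intro y
    set z := diagHom D.b fun c => reGL (D.e c) (y c : GL (Fin (D.t c).1) F) with hz
    have hzP : (pm w₀)⁻¹ * (pm w₀ * z * (pm w₀)⁻¹) * pm w₀ = z := by group
    have hU : pm w₀ * z * (pm w₀)⁻¹ ∈ uni (m + 1) F := by
      intro a a' hn
      obtain ⟨x, rfl⟩ := w₀.surjective a
      obtain ⟨x', rfl⟩ := w₀.surjective a'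
      obtain ⟨c, j, rfl⟩ := hcoord x
      obtain ⟨c', j', rfl⟩ := hcoord x'
      rw [pm_conj, reGL_apply, Equiv.symm_apply_apply, Equiv.symm_apply_apply, hz, diagHom_apply]
      by_cases hcc : c = c'
      · subst hcc
        rw [diagMat_of_eq D.b _ (D.b_coord c j) (D.b_coord c j'), reGL_apply]
        rw [show (D.e c).symm ⟨D.coord ⟨c, j⟩, D.b_coord c j⟩ = j from (D.e c).symm_apply_apply j,
          show (D.e c).symm ⟨D.coord ⟨c, j'⟩, D.b_coord c j'⟩ = j' from (D.e c).symm_apply_apply j']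
        rw [(y c).2 j j' fun hlt => hn ?_]
        · simp [Matrix.one_apply]
        · have h1 := hw₀ c j
          have h2 := hw₀ c j'
          have h3 : (j : ℕ) < j' := hlt
          show w₀ _ < w₀ _
          rw [Fin.lt_def]
          omega
      · rw [diagMat_of_ne D.b _ (by rw [D.b_coord, D.b_coord]; exact hcc), Matrix.one_apply_ne]
        exact fun h => hcc (congrArg Sigma.fst (D.coord.injective (w₀.injective h)))
    refine ⟨⟨_, mem_dStab.mpr ⟨hU, by rw [hzP]; exact diagHom_mem D.b _⟩⟩, funext fun c => Subtype.ext ?_⟩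
    show reGL (D.e c).symm (blk D.b c ⟨_, _⟩) = (y c : GL (Fin (D.t c).1) F)
    rw [show (⟨(pm w₀)⁻¹ * (pm w₀ * z * (pm w₀)⁻¹) * pm w₀, _⟩ : (par D.b : Subgroup (GL (Fin (m + 1)) F))) =
      ⟨z, diagHom_mem D.b _⟩ from Subtype.ext hzP, blk_diag, reGL_trans]
    exact Units.ext (Matrix.ext fun i j => by simp)
  have hfn : ∀ x : Q, D.fn ⟨_, hQ2 x⟩ = ∏ c, ((D.t c).2.1 : GL (Fin (D.t c).1) F → ℂ) (Ψ x c) := fun x => rfl
  have hsup : ∀ x : Q, supSum (x : GL (Fin (m + 1)) F).val = ∑ c, supSum ((Ψ x c : GL (Fin (D.t c).1) F)).val := by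
    intro x
    simp only [supSum]
    rw [← Equiv.sum_comp (D.coord.trans w₀), Fintype.sum_sigma]
    refine Finset.sum_congr rfl fun c _ => Finset.sum_congr rfl fun j _ => ?_
    rw [← Equiv.sum_comp (D.coord.trans w₀), Fintype.sum_sigma,
      Finset.sum_eq_single c]
    · refine Finset.sum_congr rfl fun j' _ => ?_
      simp only [Equiv.trans_apply, hw₀]
      rw [← hentry x c j j']
      by_cases h : (j : ℕ) + 1 = j'
      · rw [if_pos h, if_pos (by omega)]; rfl
      · rw [if_neg h, if_neg (by omega)]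
    · intro c' _ hc'
      refine Finset.sum_eq_zero fun j' _ => ?_
      simp only [Equiv.trans_apply]
      by_cases h : (w₀ (D.coord ⟨c, j⟩) : ℕ) + 1 = w₀ (D.coord ⟨c', j'⟩)
      · refine (if_pos h).trans ?_
        rcases lt_or_gt_of_ne hc' with hlt | hlt
        · have h0 := par_apply D.b (hQ2 x) (i := D.coord ⟨c, j⟩) (j := D.coord ⟨c', j'⟩)
            (by rw [D.b_coord, D.b_coord]; exact hlt)
          rwa [inv_pm_conj_apply] at h0
        · rw [hw₀, hw₀] at h
          have := D.off_add_le hlt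
          have := j'.2
          omega
      · exact if_neg h
    · simp
  have htheta : ∀ x : Q, theta ψ (x : GL (Fin (m + 1)) F) = ∏ c, theta ψ (Ψ x c : GL (Fin (D.t c).1) F) := by
    intro x
    have hprod : ∀ (s : Finset (Fin D.k)) (f : Fin D.k → F), ψ (∑ c ∈ s, f c) = ∏ c ∈ s, ψ (f c) := by
      intro s f
      induction s using Finset.induction with
      | empty => simp
      | insert a s ha ih => rw [Finset.sum_insert ha, Finset.prod_insert ha, AddChar.map_add_eq_mul, ih]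
    simp only [theta]
    rw [hsup x, hprod]
  have hval : whitTerm ψ D (pm w₀) = Nat.card Q := by
    have hinner := classInner_pullback hΨ
      (fun y => ∏ c, ((D.t c).2.1 : GL (Fin (D.t c).1) F → ℂ) (y c))
      (fun y => ∏ c, thetaHom ψ (y c))
    rw [classInner_prod (fun c (y : uni (D.t c).1 F) => ((D.t c).2.1 : GL (Fin (D.t c).1) F → ℂ) y)
      (fun c (y : uni (D.t c).1 F) => thetaHom ψ y)] at hinner
    have hone : ∀ c, classInner (fun y : uni (D.t c).1 F => ((D.t c).2.1 : GL (Fin (D.t c).1) F → ℂ) y)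
        (fun y : uni (D.t c).1 F => thetaHom ψ y) = 1 := fun c => whit_cusp_eq_one hψ (D.t c).2
    rw [Finset.prod_congr rfl fun c _ => hone c, Finset.prod_const_one, classInner,
      inv_mul_eq_iff_eq_mul₀ (by simp : (Nat.card Q : ℂ) ≠ 0), mul_one] at hinner
    rw [whitTerm, ← hinner, ← Finset.sum_subset (Finset.subset_univ
      ((Finset.univ : Finset Q).map (Function.Embedding.subtype _))), Finset.sum_map]
    · refine Finset.sum_congr rfl fun x _ => ?_
      simp only [Function.Embedding.subtype_apply, Function.comp_apply]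
      rw [Datum.ext, thetaExt, CfsgLib.Induction.extendByZero_mem _ _ (hQ2 x),
        CfsgLib.Induction.extendByZero_mem _ _ (hQ1 x), hfn x]
      show _ * conj (theta ψ _) = _
      rw [htheta x]
      rfl
    · intro x _ hx
      by_cases h1 : x ∈ uni (m + 1) F
      · by_cases h2 : (pm w₀)⁻¹ * x * pm w₀ ∈ par D.b
        · exact absurd (Finset.mem_map.mpr ⟨(⟨x, mem_dStab.mpr ⟨h1, h2⟩⟩ : Q), Finset.mem_univ _, rfl⟩) hx
        · rw [Datum.ext, CfsgLib.Induction.extendByZero_notMem _ _ h2, zero_mul]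
      · rw [thetaExt, CfsgLib.Induction.extendByZero_notMem _ _ h1, map_zero, mul_zero]
  have h := sum_doubleCoset (uni (m + 1) F) (par D.b) (whitTerm ψ D)
    (fun a ha p hp g => whitTerm_invariant ψ D ha hp g) (fun _ : Unit => (pm w₀ : GL (Fin (m + 1)) F)) (fun _ => 1) 1
    (fun g hg => by
      obtain ⟨a, ha, w, p, hp, rfl⟩ := exists_uni_pm_par D.b g
      rw [whitTerm_invariant ψ D ha hp] at hg
      have hπ := hsame w hg
      refine Nat.card_eq_one_iff_unique.mpr ⟨inferInstance, ⟨⟨(), a, ha, pm (w₀⁻¹ * w) * p,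
        mul_mem (pm_mem_par D.b hπ) hp, ?_⟩⟩⟩
      rw [← pm_mul, ← pm_inv]
      group)
    (fun _ => by rw [one_mul]; exact hval)
  rw [Nat.cast_one, one_mul, Finset.sum_const, Finset.card_univ, Fintype.card_unit, one_smul, mul_one] at h
  rw [whit_R_eq, h, inv_mul_cancel₀]
  simp

end CfsgLib.GLCusp
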