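import Cfsg.Agent.Lib.GLCusp.Blocks
import Cfsg.Agent.Lib.GLFlags.Bruhat

/-!
The inner product of two parabolically induced cuspidal data.
-/

set_option autoImplicit false
set_option linter.unusedSectionVars false

namespace CfsgLib.GLCusp

open Matrix Finset Cfsg CfsgLib.Characters
open scoped ComplexConjugate

variable {F : Type*} [Field F] [Fintype F] [DecidableEq F] {n : ℕ}

theorem permGL_eq_pm (π : Equiv.Perm (Fin n)) : CfsgLib.GLFlags.permGL F π = pm π :=
  Units.ext (Matrix.ext fun i j => by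
    simp only [CfsgLib.GLFlags.permGL_coe, CfsgLib.GLFlags.permMat, Matrix.of_apply, pm_apply])

theorem reGL_mem_par {k : ℕ} (b : Fin n → Fin k) {p : GL (Fin n) F} (hp : p ∈ Cfsg.upperTriangularGL n F) :
    reGL (Tuple.sort b) p ∈ par b := by
  intro i j h
  rw [reGL_apply]
  refine hp ?_
  show (Tuple.sort b).symm j < (Tuple.sort b).symm i
  by_contra hle
  push Not at hle
  have := Tuple.monotone_sort b hle
  simp only [Function.comp_apply, Equiv.apply_symm_apply] at this
  exact absurd h (not_lt.mpr this)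

/-- Bruhat decomposition for two labellings. -/
theorem exists_par_pm_par {k k' : ℕ} (b : Fin n → Fin k) (b' : Fin n → Fin k') (g : GL (Fin n) F) :
    ∃ x ∈ par b, ∃ (w : Equiv.Perm (Fin n)), ∃ y ∈ par b', g = x * pm w * y := by
  set π := Tuple.sort b
  set π' := Tuple.sort b'
  obtain ⟨p, hp, q, hq, s, hs⟩ := CfsgLib.GLFlags.bruhat ((pm π)⁻¹ * g * pm π' : GL (Fin n) F)
  rw [permGL_eq_pm] at hs
  refine ⟨reGL π p, reGL_mem_par b hp, π * s * π'⁻¹, reGL π' q, reGL_mem_par b' hq, ?_⟩
  rw [← pm_conj, ← pm_conj, ← pm_mul, ← pm_mul, ← pm_inv]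
  calc g = pm π * ((pm π)⁻¹ * g * pm π') * (pm π')⁻¹ := by group
    _ = pm π * (p * pm s * q) * (pm π')⁻¹ := by rw [hs]
    _ = _ := by group

/-- The summand of the inner product attached to a group element. -/
noncomputable def term (D D' : Datum F n) (g : GL (Fin n) F) : ℂ :=
  ∑ x : GL (Fin n) F, D.ext x * conj (D'.ext (g⁻¹ * x * g))

theorem classInner_R (D D' : Datum F n) :
    classInner D.R D'.R = ((Nat.card (par D.b : Subgroup (GL (Fin n) F)) : ℂ) *
      Nat.card (par D'.b : Subgroup (GL (Fin n) F)))⁻¹ * ∑ g, term D D' g := by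
  rw [Datum.R, CfsgLib.Induction.classInner_indFun _ _ (isClassFunction_of_isCharacter D'.isCharacter_R)]
  simp only [classInner]
  rw [← CfsgLib.Induction.sum_extendByZero_mul (par D.b) D.fn (fun x => conj (D'.R x)), mul_inv, mul_assoc]
  congr 1
  simp only [term, Datum.R_apply, map_mul, map_inv₀, map_natCast, map_sum, Finset.mul_sum]
  rw [Finset.sum_comm]
  refine Finset.sum_congr rfl fun g _ => Finset.sum_congr rfl fun x _ => ?_
  simp only [Datum.ext]
  ring

theorem term_swap (D D' : Datum F n) (g : GL (Fin n) F) : term D D' g = conj (term D' D g⁻¹) := by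
  simp only [term, map_sum, map_mul, RingHomCompTriple.comp_apply, RingHom.id_apply, inv_inv,
    Complex.conj_conj]
  rw [← Equiv.sum_comp (MulAut.conj g).toEquiv]
  refine Finset.sum_congr rfl fun x _ => ?_
  simp only [MulEquiv.toEquiv_eq_coe, EquivLike.coe_coe, MulAut.conj_apply]
  rw [show g⁻¹ * (g * x * g⁻¹) * g = x by group]
  ring

theorem term_invariant (D D' : Datum F n) {p : GL (Fin n) F} (hp : p ∈ par D.b) {q : GL (Fin n) F}
    (hq : q ∈ par D'.b) (g : GL (Fin n) F) : term D D' (p * g * q) = term D D' g := by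
  simp only [term]
  rw [← Equiv.sum_comp (MulAut.conj p).toEquiv]
  refine Finset.sum_congr rfl fun x _ => ?_
  simp only [MulEquiv.toEquiv_eq_coe, EquivLike.coe_coe, MulAut.conj_apply]
  rw [D.ext_conj hp, show (p * g * q)⁻¹ * (p * x * p⁻¹) * (p * g * q) = q⁻¹ * (g⁻¹ * x * g) * q⁻¹⁻¹ by group,
    D'.ext_conj (inv_mem hq)]

/-- A block of the first labelling cut by the second one annihilates the term. -/
theorem term_eq_zero_of_cut (D D' : Datum F n) (w : Equiv.Perm (Fin n)) {i j : Fin n}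
    (hb : D.b (w i) = D.b (w j)) (hb' : D'.b i < D'.b j) : term D D' (pm w) = 0 := by
  classical
  set c := D.b (w i) with hc
  set S : Finset {a // D.b a = c} := Finset.univ.filter fun a => D'.b (w.symm a.1) ≤ D'.b i with hS
  have hSn : S.Nonempty := ⟨⟨w i, rfl⟩, by simp [hS]⟩
  have hSu : S ≠ Finset.univ := fun h => by
    have := Finset.eq_univ_iff_forall.mp h ⟨w j, hb.symm⟩
    simp [hS] at this
    exact absurd hb' (not_lt.mpr this)
  set e : GL {a // D.b a = c} F → GL (Fin n) F := fun v => diagHom D.b (Pi.mulSingle c v) with he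
  -- the embedded radical disappears on the second side
  have hmem : ∀ v : (patGroup (splitPat S) : Subgroup (GL {a // D.b a = c} F)),
      (pm w)⁻¹ * e v * pm w ∈ patGroup (unipPat D'.b) := by
    intro v a a' hn
    rw [inv_pm_conj_apply, diagHom_apply]
    have hone : (1 : Matrix (Fin n) (Fin n) F) a a' = (1 : Matrix (Fin n) (Fin n) F) (w a) (w a') := by
      simp [Matrix.one_apply]
    rw [hone]
    by_cases hbb : D.b (w a') = D.b (w a)
    · rw [diagMat_of_eq D.b _ rfl hbb]
      by_cases hac : D.b (w a) = c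
      · have key : ∀ (d : Fin D.k) (hd : d = c) (h1 : D.b (w a) = d) (h2 : D.b (w a') = d),
            ((Pi.mulSingle c (v : GL {a // D.b a = c} F) : ∀ c, GL {i // D.b i = c} F) d).val ⟨w a, h1⟩ ⟨w a', h2⟩ =
              (1 : Matrix (Fin n) (Fin n) F) (w a) (w a') := by
          intro d hd h1 h2
          subst hd
          rw [Pi.mulSingle_eq_same, v.2 _ _ (fun h => hn ?_)]
          · simp [Matrix.one_apply]
          · obtain ⟨hx, hy⟩ := h
            simp only [hS, Finset.mem_filter, Finset.mem_univ, true_and, Equiv.symm_apply_apply] at hx hy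
            exact lt_of_le_of_lt hx (not_le.mp hy)
        exact key _ hac rfl hbb
      · rw [Pi.mulSingle_eq_of_ne hac]
        simp [Matrix.one_apply]
    · rw [diagMat_of_ne D.b _ (Ne.symm hbb), Matrix.one_apply_ne]
      exact fun h => hbb (by rw [h])
  have hstep : ∀ v : (patGroup (splitPat S) : Subgroup (GL {a // D.b a = c} F)),
      term D D' (pm w) = ∑ x, D.ext (x * e v) * conj (D'.ext ((pm w)⁻¹ * x * pm w)) := by
    intro v
    rw [term, ← Equiv.sum_comp (Equiv.mulRight (e v))]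
    refine Finset.sum_congr rfl fun x _ => ?_
    simp only [Equiv.coe_mulRight]
    congr 2
    have h1 := hmem v
    rw [show (pm w)⁻¹ * (x * e v) * pm w = ((pm w)⁻¹ * x * pm w) * ((pm w)⁻¹ * e v * pm w) by group]
    have hpar := unip_le_par D'.b h1
    by_cases hx : (pm w)⁻¹ * x * pm w ∈ par D'.b
    · rw [Datum.ext, CfsgLib.Induction.extendByZero_mem _ _ (mul_mem hx hpar),
        CfsgLib.Induction.extendByZero_mem _ _ hx]
      refine Finset.prod_congr rfl fun c' _ => ?_
      have h2 := (blk_eq_one_iff D'.b ⟨_, hpar⟩).mpr h1 c'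
      rw [show (⟨_, mul_mem hx hpar⟩ : (par D'.b : Subgroup (GL (Fin n) F))) = ⟨_, hx⟩ * ⟨_, hpar⟩ from rfl,
        map_mul, h2, mul_one]
    · rw [Datum.ext, CfsgLib.Induction.extendByZero_notMem _ _ hx,
        CfsgLib.Induction.extendByZero_notMem _ _ fun h => hx ((Subgroup.mul_mem_cancel_right _ hpar).mp h)]
  have hsum : ∀ x, ∑ v : (patGroup (splitPat S) : Subgroup (GL {a // D.b a = c} F)), D.ext (x * e v) = 0 := by
    intro x
    by_cases hx : x ∈ par D.b
    · have hval : ∀ v : GL {a // D.b a = c} F, D.ext (x * e v) =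
          D.σ c (blk D.b c ⟨x, hx⟩ * v) * ∏ d ∈ Finset.univ.erase c, D.σ d (blk D.b d ⟨x, hx⟩) := by
        intro v
        rw [Datum.ext, CfsgLib.Induction.extendByZero_mem _ _ (mul_mem hx (diagHom_mem D.b _)), Datum.fn,
          ← Finset.mul_prod_erase _ _ (Finset.mem_univ c),
          show (⟨_, mul_mem hx (diagHom_mem D.b _)⟩ : (par D.b : Subgroup (GL (Fin n) F))) =
            ⟨x, hx⟩ * ⟨_, diagHom_mem D.b (Pi.mulSingle c v)⟩ from rfl]
        congr 1
        · rw [map_mul, blk_diag, Pi.mulSingle_eq_same]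
        · refine Finset.prod_congr rfl fun d hd => ?_
          rw [map_mul, blk_diag, Pi.mulSingle_eq_of_ne (Finset.ne_of_mem_erase hd), mul_one]
      simp only [hval, ← Finset.sum_mul]
      rw [D.σ_cusp c S hSn hSu, zero_mul]
    · refine Finset.sum_eq_zero fun v _ => ?_
      rw [Datum.ext, CfsgLib.Induction.extendByZero_notMem _ _
        fun h => hx ((Subgroup.mul_mem_cancel_right _ (diagHom_mem D.b _)).mp h)]
  have h := Finset.sum_congr rfl fun v (_ : v ∈ (Finset.univ :
    Finset (patGroup (splitPat S) : Subgroup (GL {a // D.b a = c} F)))) => hstep v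
  rw [Finset.sum_comm, Finset.sum_const, nsmul_eq_mul] at h
  simp only [← Finset.sum_mul, hsum, zero_mul, Finset.sum_const_zero, mul_eq_zero, Nat.cast_eq_zero,
    Finset.card_eq_zero] at h
  exact h.resolve_left Finset.univ_nonempty.ne_empty

/-- Block preserving permutations. -/
abbrev Stab {k : ℕ} (b : Fin n → Fin k) := {π : Equiv.Perm (Fin n) // ∀ j, b (π j) = b j}

/-- Permutations matching the data. -/
def IsMatch (D D' : Datum F n) (w : Equiv.Perm (Fin n)) : Prop :=
  ∃ τ : Fin D'.k ≃ Fin D.k, (∀ j, D.b (w j) = τ (D'.b j)) ∧ ∀ c, D.t (τ c) = D'.t c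

theorem reindex_inner {A : Type*} [Fintype A] [DecidableEq A] (p q : Pool F) (e : Fin p.1 ≃ A) (e' : Fin q.1 ≃ A) :
    classInner (fun g : GL A F => (p.2.1 : GL (Fin p.1) F → ℂ) (reGL e.symm g))
      (fun g : GL A F => (q.2.1 : GL (Fin q.1) F → ℂ) (reGL e'.symm g)) =
      @ite ℂ (p = q) (Classical.propDecidable _) 1 0 := by
  classical
  obtain ⟨m, χ⟩ := p
  obtain ⟨m', χ'⟩ := q
  obtain rfl : m = m' := by simpa using Fintype.card_congr (e.trans e'.symm)
  have h1 : (fun g : GL A F => (χ'.1 : GL (Fin m) F → ℂ) (reGL e'.symm g)) =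
      fun g => (χ'.1 : GL (Fin m) F → ℂ) (reGL e.symm g) := funext fun g => by
    rw [← classFunction_reGL (irr_isClassFunction χ'.1) (e'.trans e.symm), reGL_trans]
    refine congrArg _ (congrArg (fun π => reGL π g) (Equiv.ext fun x => ?_))
    simp
  show classInner (fun g : GL A F => (χ.1 : GL (Fin m) F → ℂ) (reGL e.symm g))
    (fun g : GL A F => (χ'.1 : GL (Fin m) F → ℂ) (reGL e'.symm g)) = _
  rw [show (fun g : GL A F => (χ'.1 : GL (Fin m) F → ℂ) (reGL e'.symm g)) = _ from h1,
    show (fun g : GL A F => (χ.1 : GL (Fin m) F → ℂ) (reGL e.symm g)) = (χ.1 : GL (Fin m) F → ℂ) ∘ reGL e.symm from rfl,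
    show (fun g : GL A F => (χ'.1 : GL (Fin m) F → ℂ) (reGL e.symm g)) = (χ'.1 : GL (Fin m) F → ℂ) ∘ reGL e.symm from rfl,
    CfsgLib.CharCorr.classInner_comp_equiv (reGL e.symm), classInner_irr]
  simp [Subtype.ext_iff]

/-- The value of a term at a permutation whose blocks correspond. -/
theorem term_eq_of_blocks (D D' : Datum F n) (w : Equiv.Perm (Fin n)) (τ : Fin D'.k ≃ Fin D.k)
    (hτ : ∀ j, D.b (w j) = τ (D'.b j)) :
    term D D' (pm w) = @ite ℂ (∀ c, D.t (τ c) = D'.t c) (Classical.propDecidable _) 1 0 *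
      Nat.card (dStab (par D.b) (par D'.b) (pm w : GL (Fin n) F)) := by
  classical
  set Q := dStab (par D.b) (par D'.b) (pm w : GL (Fin n) F) with hQ
  have hQ1 : ∀ x : Q, (x : GL (Fin n) F) ∈ par D.b := fun x => (mem_dStab.mp x.2).1
  have hQ2 : ∀ x : Q, (pm w)⁻¹ * (x : GL (Fin n) F) * pm w ∈ par D'.b := fun x => (mem_dStab.mp x.2).2
  let Ψ : Q →* ∀ c, GL {i // D.b i = c} F := (blkAll D.b).comp (Subgroup.inclusion inf_le_left)
  have hΨ : Function.Surjective Ψ := fun y => by
    refine ⟨⟨diagHom D.b y, mem_dStab.mpr ⟨diagHom_mem D.b y, fun i j h => ?_⟩⟩, funext fun c => blk_diag D.b y c⟩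
    rw [inv_pm_conj_apply, diagHom_apply, diagMat_of_ne]
    rw [hτ, hτ]
    exact fun e => (ne_of_gt h) (τ.injective e)
  -- the correspondence of the blocks
  let ec : ∀ (c : Fin D'.k), {a // D.b a = τ c} ≃ {j // D'.b j = c} := fun c =>
    w.symm.subtypeEquiv fun a => by
      conv_lhs => rw [← w.apply_symm_apply a, hτ]
      exact τ.injective.eq_iff
  let f' : ∀ c : Fin D.k, GL {i // D.b i = c} F → ℂ := fun c g =>
    D'.σ (τ.symm c) (reGL (ec (τ.symm c)) (reGL (Equiv.subtypeEquivRight fun a => by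
      rw [τ.apply_symm_apply]) g))
  have hsum : term D D' (pm w) = ∑ x : Q, D.fn ⟨x, hQ1 x⟩ * conj (D'.fn ⟨_, hQ2 x⟩) := by
    rw [term, ← Finset.sum_subset (Finset.subset_univ
      ((Finset.univ : Finset Q).map (Function.Embedding.subtype _)))]
    · rw [Finset.sum_map]
      refine Finset.sum_congr rfl fun x _ => ?_
      simp only [Function.Embedding.subtype_apply]
      rw [Datum.ext, Datum.ext, CfsgLib.Induction.extendByZero_mem _ _ (hQ1 x),
        CfsgLib.Induction.extendByZero_mem _ _ (hQ2 x)]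
    · intro x _ hx
      by_cases h1 : x ∈ par D.b
      · by_cases h2 : (pm w)⁻¹ * x * pm w ∈ par D'.b
        · exact absurd (Finset.mem_map.mpr ⟨(⟨x, mem_dStab.mpr ⟨h1, h2⟩⟩ : Q), Finset.mem_univ _, rfl⟩) hx
        · rw [Datum.ext, Datum.ext, CfsgLib.Induction.extendByZero_notMem _ _ h2, map_zero, mul_zero]
      · rw [Datum.ext, CfsgLib.Induction.extendByZero_notMem _ _ h1, zero_mul]
  have hfn' : ∀ x : Q, D'.fn ⟨_, hQ2 x⟩ = ∏ c, f' c (Ψ x c) := by
    intro x
    rw [Datum.fn, ← Equiv.prod_comp τ.symm]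
    refine Finset.prod_congr rfl fun c _ => congrArg (D'.σ (τ.symm c)) ?_
    ext a a'
    simp [ec, Ψ, inv_pm_conj_apply, reGL_apply, Equiv.subtypeEquiv, Equiv.subtypeEquivRight]
    rfl
  have hinner : classInner ((fun y => ∏ c, D.σ c (y c)) ∘ Ψ) ((fun y => ∏ c, f' c (y c)) ∘ Ψ) =
      ∏ c, classInner (D.σ c) (f' c) := by
    rw [classInner_pullback hΨ, classInner_prod]
  have hQne : (Nat.card Q : ℂ) ≠ 0 := by simp
  rw [classInner, inv_mul_eq_iff_eq_mul₀ hQne] at hinner
  have hf : ∀ c, classInner (D.σ c) (f' c) = if D.t c = D'.t (τ.symm c) then 1 else 0 := by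
    intro c
    have h := reindex_inner (D.t c) (D'.t (τ.symm c)) (D.e c) (((D'.e (τ.symm c)).trans (ec (τ.symm c)).symm).trans
      (Equiv.subtypeEquivRight fun a => by rw [τ.apply_symm_apply]))
    convert h using 2 <;> rfl
  rw [hsum, mul_comm]
  refine Eq.trans (Eq.trans (Finset.sum_congr rfl fun x _ => ?_) hinner) ?_
  · show _ = (∏ c, D.σ c (Ψ x c)) * conj (∏ c, f' c (Ψ x c))
    rw [hfn' x]
    rfl
  · congr 1
    rw [Finset.prod_congr rfl fun c _ => hf c]
    by_cases hall : ∀ c, D.t (τ c) = D'.t c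
    · rw [if_pos hall, Finset.prod_eq_one]
      intro c _
      rw [if_pos]
      rw [← hall (τ.symm c), τ.apply_symm_apply]
    · rw [if_neg hall]
      push Not at hall
      obtain ⟨c, hc⟩ := hall
      rw [Finset.prod_eq_zero (Finset.mem_univ (τ c))]
      rw [if_neg]
      rwa [τ.symm_apply_apply]

theorem exists_match_of_term_ne_zero (D D' : Datum F n) (w : Equiv.Perm (Fin n)) (h : term D D' (pm w) ≠ 0) :
    IsMatch D D' w := by
  classical
  have key : ∀ i j, D.b (w i) = D.b (w j) ↔ D'.b i = D'.b j := by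
    refine fun i j => ⟨fun hb => ?_, fun hb => ?_⟩
    · rcases lt_trichotomy (D'.b i) (D'.b j) with hlt | heq | hgt
      · exact absurd (term_eq_zero_of_cut D D' w hb hlt) h
      · exact heq
      · exact absurd (term_eq_zero_of_cut D D' w hb.symm hgt) h
    · have h' : term D' D (pm w⁻¹) ≠ 0 := by
        rw [← pm_inv]
        intro h0
        rw [term_swap, h0, map_zero] at h
        exact h rfl
      have hb2 : D'.b (w⁻¹ (w i)) = D'.b (w⁻¹ (w j)) := by simpa using hb
      rcases lt_trichotomy (D.b (w i)) (D.b (w j)) with hlt | heq | hgt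
      · exact absurd (term_eq_zero_of_cut D' D w⁻¹ hb2 hlt) h'
      · exact heq
      · exact absurd (term_eq_zero_of_cut D' D w⁻¹ hb2.symm hgt) h'
  choose r hr using D'.surj
  let τ : Fin D'.k ≃ Fin D.k := Equiv.ofBijective (fun c => D.b (w (r c))) ⟨fun c c' he => by
      rw [← hr c, ← hr c']; exact (key _ _).mp he, fun c => by
      obtain ⟨a, rfl⟩ := D.surj c
      obtain ⟨j, rfl⟩ := w.surjective a
      exact ⟨D'.b j, (key _ _).mpr (hr _)⟩⟩
  have hτ : ∀ j, D.b (w j) = τ (D'.b j) := fun j => ((key _ _).mpr (hr (D'.b j))).symm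
  refine ⟨τ, hτ, ?_⟩
  by_contra hne
  rw [term_eq_of_blocks D D' w τ hτ, if_neg hne, zero_mul] at h
  exact h rfl

theorem match_coset {D D' : Datum F n} {w w' : Equiv.Perm (Fin n)} (hw : IsMatch D D' w)
    (h : ∃ x ∈ par D.b, ∃ y ∈ par D'.b, (pm w' : GL (Fin n) F) = x * pm w * y) :
    ∀ j, D.b ((w' * w⁻¹) j) = D.b j := by
  classical
  obtain ⟨τ, hτ, -⟩ := hw
  obtain ⟨x, hx, y, hy, he⟩ := h
  set π := w' * w⁻¹ with hπ
  have hy2 : x⁻¹ * pm π = pm w * y * (pm w)⁻¹ := by
    rw [hπ, ← pm_mul, ← pm_inv, he]; group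
  have hle : ∀ j, D.b j ≤ D.b (π j) := by
    intro j
    -- some entry of the diagonal block through `j` is nonzero in that column
    set a := w⁻¹ j with ha
    obtain ⟨i, hi⟩ : ∃ i : {i // D'.b i = D'.b a}, (y : Matrix (Fin n) (Fin n) F) i a ≠ 0 := by
      by_contra hall
      push Not at hall
      have h1 : ((blk D'.b (D'.b a) ⟨y, hy⟩ : GL {i // D'.b i = D'.b a} F).val *ᵥ
          Pi.single (⟨a, rfl⟩ : {i // D'.b i = D'.b a}) (1 : F)) = 0 := by
        rw [Matrix.mulVec_single_one]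
        exact funext fun i => hall i
      have h2 := (Matrix.mulVec_injective_iff_isUnit.mpr (blk D'.b (D'.b a) ⟨y, hy⟩).isUnit)
        (h1.trans (Matrix.mulVec_zero _).symm)
      simpa using congrFun h2 ⟨a, rfl⟩
    have h3 : (pm w * y * (pm w)⁻¹).val (w i.1) j = (y : Matrix (Fin n) (Fin n) F) i a := by
      rw [pm_conj]
      simp [reGL_apply, ha]
    have h4 : (x⁻¹ : GL (Fin n) F).val (w i.1) (π j) ≠ 0 := by
      rw [← hy2, Units.val_mul, mul_pm_apply] at h3
      rw [h3]; exact hi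
    have h5 : D.b (w i.1) = D.b j := by
      rw [hτ, i.2, ← hτ, ha]; simp
    by_contra hlt
    push Not at hlt
    exact h4 (par_apply D.b (inv_mem hx) (h5.symm ▸ hlt))
  intro j
  have hsum : ∑ j, (D.b j : ℕ) = ∑ j, (D.b (π j) : ℕ) := (Equiv.sum_comp π fun j => (D.b j : ℕ)).symm
  exact (Fin.ext ((Finset.sum_eq_sum_iff_of_le fun i _ => Fin.le_def.mp (hle i)).mp hsum j (Finset.mem_univ j))).symm

theorem IsMatch.mul_stab {D D' : Datum F n} {w : Equiv.Perm (Fin n)} (hw : IsMatch D D' w) (π : Stab D.b) :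
    IsMatch D D' (π.1 * w) := by
  obtain ⟨τ, hτ, ht⟩ := hw
  exact ⟨τ, fun j => by rw [Equiv.Perm.mul_apply, π.2, hτ], ht⟩

theorem inner_eq (D D' : Datum F n) :
    (Nat.card (Stab D.b) : ℂ) * classInner D.R D'.R = Nat.card {w // IsMatch D D' w} := by
  classical
  have h := sum_doubleCoset (par D.b) (par D'.b) (term D D')
    (fun x hx y hy g => term_invariant D D' hx hy g)
    (fun w : {w // IsMatch D D' w} => (pm w.1 : GL (Fin n) F)) (fun _ => 1) (Nat.card (Stab D.b))
    (fun g hg => by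
      obtain ⟨x, hx, w, y, hy, rfl⟩ := exists_par_pm_par D.b D'.b g
      rw [term_invariant D D' hx hy] at hg
      have hw := exists_match_of_term_ne_zero D D' w hg
      have hmul : ∀ π : Stab D.b, ∃ x' ∈ par D.b, ∃ y' ∈ par D'.b,
          x * pm w * y = x' * (pm (π.1 * w) : GL (Fin n) F) * y' := fun π =>
        ⟨x * (pm π.1)⁻¹, mul_mem hx (inv_mem (pm_mem_par D.b π.2)), y, hy, by rw [← pm_mul]; group⟩
      refine (Nat.card_congr (Equiv.ofBijective (fun π : Stab D.b =>
        (⟨⟨π.1 * w, hw.mul_stab π⟩, hmul π⟩ : {w' : {w // IsMatch D D' w} //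
          ∃ x' ∈ par D.b, ∃ y' ∈ par D'.b, x * pm w * y = x' * pm w'.1 * y'})) ⟨?_, ?_⟩)).symm
      · intro π π' hh
        simp only [Subtype.mk.injEq] at hh
        exact Subtype.ext (mul_right_cancel hh)
      · rintro ⟨⟨w', hw'⟩, x', hx', y', hy', he⟩
        refine ⟨⟨w' * w⁻¹, match_coset hw ⟨x'⁻¹ * x, mul_mem (inv_mem hx') hx, y * y'⁻¹,
          mul_mem hy (inv_mem hy'), ?_⟩⟩, by simp⟩
        calc (pm w' : GL (Fin n) F) = x'⁻¹ * (x' * pm w' * y') * y'⁻¹ := by group
          _ = x'⁻¹ * (x * pm w * y) * y'⁻¹ := by rw [he]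
          _ = _ := by group)
    (fun w => by
      obtain ⟨τ, hτ, ht⟩ := w.2
      rw [term_eq_of_blocks D D' w.1 τ hτ, if_pos ht])
  rw [Finset.sum_const, Finset.card_univ, nsmul_eq_mul, mul_one, ← Nat.card_eq_fintype_card] at h
  have h1 : (Nat.card (par D.b : Subgroup (GL (Fin n) F)) : ℂ) ≠ 0 := by simp
  have h2 : (Nat.card (par D'.b : Subgroup (GL (Fin n) F)) : ℂ) ≠ 0 := by simp
  rw [classInner_R]
  field_simp
  linear_combination h

theorem types_eq_of_match {D D' : Datum F n} {w : Equiv.Perm (Fin n)} (h : IsMatch D D' w) :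
    D.types = D'.types := by
  obtain ⟨τ, -, ht⟩ := h
  rw [Datum.types, Datum.types, ← Finset.map_univ_equiv τ, Finset.map_val, Multiset.map_map]
  exact Multiset.map_congr rfl fun c _ => ht c

theorem exists_match {D D' : Datum F n} (h : D.types = D'.types) : ∃ w, IsMatch D D' w := by
  classical
  have hc : ∀ p : Pool F, Fintype.card {c // D'.t c = p} = Fintype.card {c // D.t c = p} := by
    intro p
    have := congrArg (Multiset.count p) h
    simp only [Datum.types, Multiset.count_map] at this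
    rw [Fintype.card_subtype, Fintype.card_subtype]
    simp only [Finset.card_def, Finset.filter_val]
    simpa [eq_comm] using this.symm
  let τ : Fin D'.k ≃ Fin D.k := Equiv.ofFiberEquiv fun p => Fintype.equivOfCardEq (hc p)
  have ht : ∀ c, D.t (τ c) = D'.t c := fun c => Equiv.ofFiberEquiv_map _ c
  let w : Fin n ≃ Fin n := (Equiv.sigmaFiberEquiv D'.b).symm.trans
    ((Equiv.sigmaCongr τ fun c => (D'.e c).symm.trans
      ((finCongr (congrArg Sigma.fst (ht c).symm)).trans (D.e (τ c)))).trans (Equiv.sigmaFiberEquiv D.b))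
  refine ⟨w, τ, fun j => ?_, ht⟩
  simp only [w, Equiv.trans_apply, Equiv.sigmaFiberEquiv_symm_apply_fst, Equiv.sigmaFiberEquiv_apply]
  exact Eq.trans (Subtype.prop (Sigma.snd (β := fun c => {i // D.b i = c}) _)) rfl

theorem IsMatch.symm {D D' : Datum F n} {w : Equiv.Perm (Fin n)} (h : IsMatch D D' w) : IsMatch D' D w⁻¹ := by
  obtain ⟨τ, hτ, ht⟩ := h
  refine ⟨τ.symm, fun j => ?_, fun c => ?_⟩
  · rw [eq_comm, Equiv.symm_apply_eq, ← hτ]; simp
  · rw [← ht, τ.apply_symm_apply]

theorem IsMatch.trans {D D' D'' : Datum F n} {v w : Equiv.Perm (Fin n)} (h : IsMatch D D' v)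
    (h' : IsMatch D' D'' w) : IsMatch D D'' (v * w) := by
  obtain ⟨τ, hτ, ht⟩ := h
  obtain ⟨τ', hτ', ht'⟩ := h'
  exact ⟨τ'.trans τ, fun j => by simp [hτ, hτ'], fun c => by simp [ht, ht']⟩

theorem classInner_eq_self {D D' : Datum F n} (h : D.types = D'.types) :
    classInner D.R D'.R = classInner D.R D.R := by
  classical
  obtain ⟨w₀, hw₀⟩ := exists_match h
  have e : {w // IsMatch D D' w} ≃ {w // IsMatch D D w} :=
    (Equiv.mulRight w₀⁻¹).subtypeEquiv fun w => ⟨fun hw => hw.trans hw₀.symm, fun hw => by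
      have := hw.trans hw₀
      simpa using this⟩
  have hS : (Nat.card (Stab D.b) : ℂ) ≠ 0 := by
    have : Nonempty (Stab D.b) := ⟨⟨1, fun _ => rfl⟩⟩
    simp
  exact mul_left_cancel₀ hS (by rw [inner_eq, inner_eq, Nat.card_congr e])

theorem R_eq_of_types {D D' : Datum F n} (h : D.types = D'.types) : D.R = D'.R := by
  classical
  have hcl := isClassFunction_of_isCharacter D.isCharacter_R
  have hcl' := isClassFunction_of_isCharacter D'.isCharacter_R
  have e1 := classInner_eq_self h
  have e2 := classInner_eq_self h.symm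
  have hstab : Nat.card (Stab D.b) = Nat.card (Stab D'.b) := by
    obtain ⟨w₀, τ, hτ, -⟩ := exists_match h
    refine Nat.card_congr ((MulAut.conj w₀⁻¹).toEquiv.subtypeEquiv fun π => ?_)
    simp only [MulEquiv.toEquiv_eq_coe, EquivLike.coe_coe, MulAut.conj_apply, inv_inv]
    refine ⟨fun hπ j => τ.injective ?_, fun hπ j => ?_⟩
    · rw [← hτ, ← hτ]; simp [hπ]
    · obtain ⟨i, rfl⟩ := w₀.surjective j
      have := congrArg τ (hπ i)
      rw [← hτ, ← hτ] at this
      simpa using this
  have e3 : classInner D.R D.R = classInner D'.R D.R := by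
    rw [CfsgLib.Induction.classInner_swap D'.R, e1, ← CfsgLib.Induction.classInner_swap]
  have h0 : classInner (D.R - D'.R) (D.R - D'.R) = 0 := by
    rw [classInner_sub_left, classInner_sub_right, classInner_sub_right, e1, ← e2, ← e3]; ring
  have hsq := h0
  rw [classInner] at hsq
  have hG : (Nat.card (GL (Fin n) F) : ℂ) ≠ 0 := by simp
  have hz : ∑ g, Complex.normSq ((D.R - D'.R) g) = 0 := by
    have := (mul_eq_zero.mp hsq).resolve_left (inv_ne_zero hG)
    simp only [Complex.mul_conj] at this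
    exact_mod_cast this
  funext g
  have := (Finset.sum_eq_zero_iff_of_nonneg fun g _ => Complex.normSq_nonneg _).mp hz g (Finset.mem_univ g)
  rw [Complex.normSq_eq_zero, Pi.sub_apply, sub_eq_zero] at this
  exact this

theorem types_eq_of_inner_ne_zero {D D' : Datum F n} (h : classInner D.R D'.R ≠ 0) : D.types = D'.types := by
  classical
  have h' := inner_eq D D'
  by_contra hne
  have : IsEmpty {w // IsMatch D D' w} := ⟨fun w => hne (types_eq_of_match w.2)⟩
  rw [Nat.card_of_isEmpty (α := {w // IsMatch D D' w}), Nat.cast_zero, mul_eq_zero] at h'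
  have : Nonempty (Stab D.b) := ⟨⟨1, fun _ => rfl⟩⟩
  exact h (h'.resolve_left (by simp))

end CfsgLib.GLCusp
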