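import Cfsg.Agent.Lib.GLCusp.Graded

/-!
Monic irreducible polynomials other than `X` as a graded family.
-/

set_option autoImplicit false
set_option linter.unusedSectionVars false

namespace CfsgLib.GLCusp

open Polynomial UniqueFactorizationMonoid

variable (F : Type*) [Field F] [Fintype F] [DecidableEq F]

/-- Monic irreducible polynomials of degree `j` with nonzero constant term. -/
abbrev IrrPoly (j : ℕ) := {p : F[X] // p.Monic ∧ Irreducible p ∧ p.natDegree = j ∧ p.coeff 0 ≠ 0}

/-- Monic polynomials of degree `j` with nonzero constant term. -/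
abbrev MonicPoly (j : ℕ) := {p : F[X] // p.Monic ∧ p.natDegree = j ∧ p.coeff 0 ≠ 0}

variable {F}

theorem isEmpty_irrPoly_zero : IsEmpty (IrrPoly F 0) :=
  ⟨fun p => p.2.2.1.natDegree_pos.ne' p.2.2.2.1⟩

/-- The monic polynomial with given lower coefficients. -/
noncomputable def polyOf {m : ℕ} (v : Fin (m + 1) → F) : F[X] :=
  X ^ (m + 1) + ∑ i : Fin (m + 1), C (v i) * X ^ (i : ℕ)

omit [Fintype F] [DecidableEq F] in
theorem coeff_polyOf {m : ℕ} (v : Fin (m + 1) → F) (i : Fin (m + 1)) : (polyOf v).coeff i = v i := by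
  rw [polyOf, coeff_add, coeff_X_pow, if_neg (ne_of_lt i.2), zero_add, finsetSum_coeff, Finset.sum_eq_single i]
  · rw [coeff_C_mul, coeff_X_pow, if_pos rfl, mul_one]
  · intro j _ hj
    rw [coeff_C_mul, coeff_X_pow, if_neg (fun e => hj (Fin.ext e.symm)), mul_zero]
  · simp

omit [Fintype F] [DecidableEq F] in
theorem polyOf_monic {m : ℕ} (v : Fin (m + 1) → F) : (polyOf v).Monic ∧ (polyOf v).natDegree = m + 1 := by
  refine ⟨monic_X_pow_add (degree_sum_fin_lt _), natDegree_eq_of_degree_eq_some ?_⟩
  rw [polyOf, degree_add_eq_left_of_degree_lt (by rw [degree_X_pow]; exact degree_sum_fin_lt _), degree_X_pow]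

omit [Fintype F] [DecidableEq F] in
theorem polyOf_coeff {p : F[X]} (hp : p.Monic) {m : ℕ} (hd : p.natDegree = m + 1) :
    polyOf (fun i : Fin (m + 1) => p.coeff i) = p := by
  refine Polynomial.ext fun k => ?_
  obtain ⟨hm, hdeg⟩ := polyOf_monic (F := F) (fun i : Fin (m + 1) => p.coeff i)
  rcases lt_trichotomy k (m + 1) with h | h | h
  · exact coeff_polyOf (fun i : Fin (m + 1) => p.coeff i) ⟨k, h⟩
  · subst h
    have h1 := hm.coeff_natDegree
    have h2 := hp.coeff_natDegree
    rw [hdeg] at h1
    rw [hd] at h2
    exact h1.trans h2.symm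
  · rw [coeff_eq_zero_of_natDegree_lt (by omega), coeff_eq_zero_of_natDegree_lt (by omega)]

/-- Monic polynomials by their coefficients. -/
noncomputable def monicEquiv (m : ℕ) : MonicPoly F (m + 1) ≃ Fˣ × (Fin m → F) where
  toFun p := (Units.mk0 (p.1.coeff 0) p.2.2.2, fun i => p.1.coeff (i + 1))
  invFun c := ⟨polyOf (Fin.cons (c.1 : F) c.2), (polyOf_monic _).1, (polyOf_monic _).2, by
    have := coeff_polyOf (Fin.cons (c.1 : F) c.2) 0
    simp at this
    rw [this]
    exact c.1.ne_zero⟩
  left_inv p := by
    refine Subtype.ext ?_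
    refine Eq.trans (congrArg polyOf ?_) (polyOf_coeff p.2.1 p.2.2.1)
    funext i
    refine Fin.cases ?_ (fun j => ?_) i <;> simp
  right_inv c := by
    refine Prod.ext (Units.ext ?_) (funext fun i => ?_)
    · simpa using coeff_polyOf (Fin.cons (c.1 : F) c.2) 0
    · simpa using coeff_polyOf (Fin.cons (c.1 : F) c.2) i.succ

theorem card_monicPoly (m : ℕ) :
    Nat.card (MonicPoly F (m + 1)) = (Fintype.card F - 1) * Fintype.card F ^ m := by
  classical
  rw [Nat.card_congr (monicEquiv m), Nat.card_eq_fintype_card, Fintype.card_prod, Fintype.card_units,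
    Fintype.card_fun, Fintype.card_fin]

theorem finite_monicPoly (j : ℕ) : Finite (MonicPoly F j) := by
  rcases j with _ | m
  · have : Subsingleton (MonicPoly F 0) := ⟨fun p q => Subtype.ext (by
      rw [eq_one_of_monic_natDegree_zero p.2.1 p.2.2.1, eq_one_of_monic_natDegree_zero q.2.1 q.2.2.1])⟩
    infer_instance
  · exact Finite.of_equiv _ (monicEquiv m).symm

theorem finite_irrPoly (j : ℕ) : Finite (IrrPoly F j) := by
  have := finite_monicPoly (F := F) j
  exact Finite.of_injective (fun p : IrrPoly F j => (⟨p.1, p.2.1, p.2.2.2.1, p.2.2.2.2⟩ : MonicPoly F j))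
    fun p q h => Subtype.ext (congrArg (fun r : MonicPoly F j => r.1) h)

/-- Unique factorisation. -/
noncomputable def multPolyEquiv (n : ℕ) : Mult (IrrPoly F) n ≃ MonicPoly F n := by
  classical
  have hmon : ∀ s : Multiset (Σ j, IrrPoly F j), ∀ p ∈ s.map (fun x : Σ j, IrrPoly F j => x.2.1), p.Monic := by
    intro s p hp
    obtain ⟨x, -, rfl⟩ := Multiset.mem_map.mp hp
    exact x.2.2.1
  have hprod : ∀ s : Multiset (Σ j, IrrPoly F j), (s.map fun x : Σ j, IrrPoly F j => x.2.1).prod.Monic := fun s =>
    monic_multiset_prod_of_monic _ _ fun x _ => x.2.2.1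
  have hsig : ∀ x y : Σ j, IrrPoly F j, x.2.1 = y.2.1 → x = y := by
    rintro ⟨j, p⟩ ⟨j', q⟩ h
    obtain rfl : j = j' := by
      have h1 := p.2.2.2.1
      have h2 := q.2.2.2.1
      rw [show p.1 = q.1 from h] at h1
      omega
    rw [show p = q from Subtype.ext h]
  refine Equiv.ofBijective (fun s => ⟨(s.1.map fun x => x.2.1).prod, hprod s.1, ?_, ?_⟩) ⟨?_, ?_⟩
  · rw [natDegree_multiset_prod_of_monic _ (hmon s.1), Multiset.map_map]
    refine Eq.trans ?_ s.2
    exact congrArg Multiset.sum (Multiset.map_congr rfl fun x _ => x.2.2.2.2.1)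
  · rw [coeff_zero_eq_eval_zero, eval_multiset_prod, Multiset.map_map, Ne, Multiset.prod_eq_zero_iff]
    intro h
    obtain ⟨x, -, hx⟩ := Multiset.mem_map.mp h
    exact x.2.2.2.2.2 (by rw [coeff_zero_eq_eval_zero]; exact hx)
  · intro s t h
    have h' : (s.1.map fun x => x.2.1).prod = (t.1.map fun x => x.2.1).prod := congrArg Subtype.val h
    have key : ∀ u : Multiset (Σ j, IrrPoly F j),
        normalizedFactors (u.map fun x => x.2.1).prod = u.map fun x => x.2.1 := by
      intro u
      rw [normalizedFactors_multiset_prod _ (fun h0 => (hmon u 0 h0).ne_zero rfl), Multiset.map_map]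
      induction u using Multiset.induction with
      | empty => simp
      | cons a u ih =>
        rw [Multiset.map_cons, Multiset.sum_cons, ih, Function.comp_apply,
          normalizedFactors_irreducible a.2.2.2.1, a.2.2.1.normalize_eq_self, Multiset.map_cons, Multiset.singleton_add]
    refine Subtype.ext (Multiset.map_injective (f := fun x : Σ j, IrrPoly F j => x.2.1) hsig ?_)
    exact (key s.1).symm.trans ((congrArg normalizedFactors h').trans (key t.1))
  · rintro ⟨p, hp, hdeg, h0⟩
    have hirr : ∀ q ∈ normalizedFactors p, q.Monic ∧ Irreducible q ∧ q.coeff 0 ≠ 0 := by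
      intro q hq
      have hi := irreducible_of_normalized_factor q hq
      have hn := normalize_normalized_factor q hq
      refine ⟨?_, hi, ?_⟩
      · rw [← hn]; exact monic_normalize hi.ne_zero
      · intro hq0
        obtain ⟨r, hr⟩ := dvd_of_mem_normalizedFactors hq
        exact h0 (by rw [hr, mul_coeff_zero, hq0, zero_mul])
    let s : Multiset (Σ j, IrrPoly F j) := (normalizedFactors p).attach.map fun q =>
      ⟨q.1.natDegree, q.1, (hirr q.1 q.2).1, (hirr q.1 q.2).2.1, rfl, (hirr q.1 q.2).2.2⟩
    have hs : s.map (fun x => x.2.1) = normalizedFactors p := by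
      rw [Multiset.map_map]
      exact Multiset.attach_map_val _
    have hprodp : (normalizedFactors p).prod = p :=
      eq_of_monic_of_associated (monic_multiset_prod_of_monic _ id (fun q hq => (hirr q hq).1) |> fun h => by simpa using h)
        hp (prod_normalizedFactors hp.ne_zero)
    refine ⟨⟨s, ?_⟩, Subtype.ext ?_⟩
    · have := natDegree_multiset_prod_of_monic (normalizedFactors p) fun q hq => (hirr q hq).1
      rw [hprodp, hdeg] at this
      rw [this, Multiset.map_map]
      conv_rhs => rw [← Multiset.attach_map_val (normalizedFactors p), Multiset.map_map]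
      rfl
    · show (s.map fun x => x.2.1).prod = p
      rw [hs, hprodp]

/-- There are at least `φ(q^n - 1)/n` irreducible polynomials of degree `n`. -/
theorem totient_le_card_irrPoly {n : ℕ} (hn : 0 < n) :
    Nat.totient (Fintype.card F ^ n - 1) / n ≤ Nat.card (IrrPoly F n) := by
  classical
  obtain ⟨p, hp⟩ := CharP.exists F
  have : Fact p.Prime := ⟨CharP.char_is_prime F p⟩
  have : NeZero n := ⟨hn.ne'⟩
  let K := FiniteField.Extension F p n
  have hfin : Finite K := inferInstanceAs (Finite (FiniteField.Extension F p n))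
  have : Fintype K := Fintype.ofFinite K
  have hK : Fintype.card K = Fintype.card F ^ n := by
    rw [← Nat.card_eq_fintype_card, ← Nat.card_eq_fintype_card]
    exact FiniteField.natCard_extension F p n
  have hgen := IsCyclic.card_orderOf_eq_totient (α := Kˣ) (d := Fintype.card F ^ n - 1)
    (by rw [Fintype.card_units, hK])
  have := finite_irrPoly (F := F) n
  have : Fintype (IrrPoly F n) := Fintype.ofFinite _
  refine Nat.div_le_of_le_mul ?_
  rw [← hgen, Nat.card_eq_fintype_card, mul_comm]
  have hdeg : ∀ x : Kˣ, orderOf x = Fintype.card F ^ n - 1 → (minpoly F (x : K)).natDegree = n := by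
    intro x hx
    have htop : IntermediateField.adjoin F {(x : K)} = ⊤ := by
      rw [eq_top_iff]
      intro y _
      rcases eq_or_ne y 0 with rfl | hy
      · exact zero_mem _
      · have hz : Units.mk0 y hy ∈ Subgroup.zpowers x := by
          have : Subgroup.zpowers x = ⊤ :=
            Subgroup.eq_top_of_card_eq _ (by rw [Nat.card_zpowers, hx, Nat.card_eq_fintype_card, Fintype.card_units, hK])
          rw [this]
          exact Subgroup.mem_top _
        obtain ⟨k, hk⟩ := Subgroup.mem_zpowers_iff.mp hz
        have := congrArg Units.val hk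
        rw [Units.val_zpow_eq_zpow_val, Units.val_mk0] at this
        rw [← this]
        exact zpow_mem (IntermediateField.mem_adjoin_simple_self F (x : K)) k
    rw [← IntermediateField.adjoin.finrank (IsIntegral.of_finite F (x : K)), htop, IntermediateField.finrank_top']
    exact FiniteField.finrank_extension F p n
  let f : {x : Kˣ // orderOf x = Fintype.card F ^ n - 1} → IrrPoly F n := fun x =>
    ⟨minpoly F (x.1 : K), minpoly.monic (IsIntegral.of_finite F _), minpoly.irreducible (IsIntegral.of_finite F _),
      hdeg x.1 x.2, minpoly.coeff_zero_ne_zero (IsIntegral.of_finite F _) x.1.ne_zero⟩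
  rw [← Fintype.card_subtype]
  refine le_trans (le_of_eq (Finset.card_univ).symm) ?_
  refine le_trans (Finset.card_le_mul_card_image (f := f) Finset.univ n fun q _ => ?_) ?_
  · have hsub : ((Finset.univ.filter fun x => f x = q).image fun x : {x : Kˣ // orderOf x = Fintype.card F ^ n - 1} => (x.1 : K)) ⊆
        (q.1.aroots K).toFinset := by
      intro y hy
      obtain ⟨x, hx, rfl⟩ := Finset.mem_image.mp hy
      rw [Multiset.mem_toFinset, mem_aroots]
      refine ⟨q.2.1.ne_zero, ?_⟩
      rw [← show minpoly F (x.1 : K) = q.1 from congrArg Subtype.val (Finset.mem_filter.mp hx).2]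
      exact minpoly.aeval F (x.1 : K)
    have h1 := Finset.card_le_card hsub
    rw [Finset.card_image_of_injective _ (fun a b h => Subtype.ext (Units.ext h))] at h1
    refine h1.trans ((Multiset.toFinset_card_le _).trans ((card_roots' _).trans ?_))
    rw [natDegree_map, q.2.2.2.1]
  · rw [mul_comm]
    exact Nat.mul_le_mul_right _ (Finset.card_le_univ _)

end CfsgLib.GLCusp
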