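import Cfsg.Agent.Lib.GLCusp.Cover
import Cfsg.Agent.Lib.GLCusp.Induce
import Cfsg.Agent.Lib.GLCusp.PolyCount

/-!
Counting the cuspidal irreducible characters of `GL_n(F)`.
-/

set_option autoImplicit false
set_option linter.unusedSectionVars false

namespace CfsgLib.GLCusp

open Finset Cfsg CfsgLib.Characters
open scoped ComplexConjugate

variable {F : Type*} [Field F] [Fintype F] [DecidableEq F]

theorem exists_datum_of_types {n : ℕ} (s : Multiset (Pool F)) (hs : (s.map Sigma.fst).sum = n) :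
    ∃ D : Datum F n, D.types = s := by
  obtain ⟨l, rfl⟩ : ∃ l : List (Pool F), (l : Multiset (Pool F)) = s := ⟨s.toList, s.coe_toList⟩
  have hsum : ∑ c : Fin l.length, (l.get c).1 = n := by
    rw [← hs, Multiset.map_coe, Multiset.sum_coe, ← List.sum_ofFn]
    congr 1
    conv_rhs => rw [← List.ofFn_get l, List.map_ofFn]
    rfl
  let e0 : (Σ c : Fin l.length, Fin (l.get c).1) ≃ Fin n := finSigmaFinEquiv.trans (finCongr hsum)
  refine ⟨{ k := l.length
            b := fun i => (e0.symm i).1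
            t := l.get
            e := fun c => (Equiv.sigmaSubtype (β := fun c : Fin l.length => Fin (l.get c).1) c).symm.trans
              (e0.subtypeEquiv fun x => by rw [e0.symm_apply_apply]) }, ?_⟩
  show Multiset.map l.get Finset.univ.val = _
  rw [Fin.univ_val_map, List.ofFn_get]

theorem classInner_R_nat {n : ℕ} (D : Datum F n) (χ : IrrCharacter (GL (Fin n) F)) :
    ∃ a : ℕ, classInner D.R (χ : GL (Fin n) F → ℂ) = a :=
  classInner_char_nat D.isCharacter_R (irr_isCharacter χ)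

theorem sum_whit_R {m : ℕ} {ψ : AddChar F ℂ} (hψ : ψ ≠ 1) (D : Datum F (m + 1)) :
    ∑ χ : IrrCharacter (GL (Fin (m + 1)) F),
      classInner D.R (χ : GL (Fin (m + 1)) F → ℂ) * whit ψ (χ : GL (Fin (m + 1)) F → ℂ) = 1 := by
  rw [← whit_R hψ D]
  conv_rhs => rw [whit, classFunction_eq_sum (isClassFunction_of_isCharacter D.isCharacter_R)]
  simp only [whit, Finset.sum_apply, Pi.smul_apply, smul_eq_mul, Finset.sum_mul, Finset.mul_sum]
  rw [Finset.sum_comm]
  refine Finset.sum_congr rfl fun χ _ => Finset.sum_congr rfl fun u _ => ?_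
  ring

theorem generic_constituent_unique {m : ℕ} {ψ : AddChar F ℂ} (hψ : ψ ≠ 1) (D : Datum F (m + 1))
    {χ χ' : IrrCharacter (GL (Fin (m + 1)) F)}
    (h : classInner D.R (χ : GL (Fin (m + 1)) F → ℂ) ≠ 0) (h' : classInner D.R (χ' : GL (Fin (m + 1)) F → ℂ) ≠ 0)
    (hg : whit ψ (χ : GL (Fin (m + 1)) F → ℂ) ≠ 0) (hg' : whit ψ (χ' : GL (Fin (m + 1)) F → ℂ) ≠ 0) : χ = χ' := by
  classical
  by_contra hne
  choose a ha using classInner_R_nat D
  choose w hw using fun χ : IrrCharacter (GL (Fin (m + 1)) F) => whit_nat ψ (irr_isCharacter χ)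
  have h1 := sum_whit_R hψ D
  simp only [ha, hw] at h1
  norm_cast at h1
  have hpos : ∀ x : IrrCharacter (GL (Fin (m + 1)) F), classInner D.R (x : GL (Fin (m + 1)) F → ℂ) ≠ 0 → whit ψ (x : GL (Fin (m + 1)) F → ℂ) ≠ 0 →
      1 ≤ a x * w x := fun x hx hx' => by
    rw [ha, Nat.cast_ne_zero] at hx
    rw [hw, Nat.cast_ne_zero] at hx'
    exact Nat.one_le_iff_ne_zero.mpr (mul_ne_zero hx hx')
  have h2 : a χ * w χ + a χ' * w χ' ≤ ∑ x, a x * w x := by
    rw [← Finset.sum_pair (f := fun x => a x * w x) hne]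
    exact Finset.sum_le_sum_of_subset (Finset.subset_univ _)
  have := hpos χ h hg
  have := hpos χ' h' hg'
  omega

theorem inner_R_ne_zero {n : ℕ} {D D' : Datum F n} {χ : IrrCharacter (GL (Fin n) F)}
    (h : classInner D.R (χ : GL (Fin n) F → ℂ) ≠ 0) (h' : classInner D'.R (χ : GL (Fin n) F → ℂ) ≠ 0) :
    classInner D.R D'.R ≠ 0 := by
  classical
  choose a ha using classInner_R_nat D
  choose a' ha' using classInner_R_nat D'
  rw [classInner_eq_sum_mul (isClassFunction_of_isCharacter D'.isCharacter_R)]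
  simp only [ha, ha', map_natCast]
  norm_cast
  rw [Finset.sum_eq_zero_iff]
  intro h0
  rw [ha, Nat.cast_ne_zero] at h
  rw [ha', Nat.cast_ne_zero] at h'
  exact mul_ne_zero h h' (h0 χ (Finset.mem_univ _))

/-- Generic characters correspond to multisets of cuspidal characters. -/
noncomputable def genericEquiv (m : ℕ) {ψ : AddChar F ℂ} (hψ : ψ ≠ 1) :
    {χ : IrrCharacter (GL (Fin (m + 1)) F) // whit ψ (χ : GL (Fin (m + 1)) F → ℂ) ≠ 0} ≃
      Mult (Cusp F) (m + 1) := by
  classical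
  refine Equiv.ofBijective (fun χ => ⟨(exists_datum (Nat.succ_pos m) χ.1).choose.types, Datum.types_sum _⟩) ⟨?_, ?_⟩
  · intro χ χ' h
    have h' : (exists_datum (Nat.succ_pos m) χ.1).choose.types = (exists_datum (Nat.succ_pos m) χ'.1).choose.types :=
      congrArg Subtype.val h
    have hR := R_eq_of_types h'
    have hχ := (exists_datum (Nat.succ_pos m) χ.1).choose_spec
    have hχ' := (exists_datum (Nat.succ_pos m) χ'.1).choose_spec
    rw [← hR] at hχ'
    exact Subtype.ext (generic_constituent_unique hψ _ hχ hχ' χ.2 χ'.2)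
  · rintro ⟨s, hs⟩
    obtain ⟨D, hD⟩ := exists_datum_of_types s hs
    have h1 := sum_whit_R hψ D
    obtain ⟨χ, -, hχ⟩ := Finset.exists_ne_zero_of_sum_ne_zero (h1.trans_ne one_ne_zero)
    refine ⟨⟨χ, right_ne_zero_of_mul hχ⟩, Subtype.ext ?_⟩
    exact (types_eq_of_inner_ne_zero
      (inner_R_ne_zero (exists_datum (Nat.succ_pos m) χ).choose_spec (left_ne_zero_of_mul hχ))).trans hD

/-- There are as many cuspidal characters as irreducible polynomials. -/
theorem card_cusp_eq (n : ℕ) : Nat.card (Cusp F n) = Nat.card (IrrPoly F n) := by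
  classical
  obtain ⟨ψ, hψ⟩ := exists_ne_one (F := F)
  refine card_eq_of_mult (P := Cusp F) (Q := IrrPoly F) ⟨fun χ => lt_irrefl 0 χ.2.1⟩ isEmpty_irrPoly_zero
    (fun j => inferInstance) finite_irrPoly (fun j hj => ?_) n
  obtain ⟨m, rfl⟩ : ∃ m, j = m + 1 := ⟨j - 1, by omega⟩
  have := finite_monicPoly (F := F) (m + 1)
  refine ⟨Finite.of_equiv _ (genericEquiv m hψ), Finite.of_equiv _ (multPolyEquiv (m + 1)).symm, ?_⟩
  rw [← Nat.card_congr (genericEquiv m hψ), Nat.card_congr (multPolyEquiv (F := F) (m + 1)), card_generic hψ,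
    card_monicPoly]

theorem cusp_degree {n : ℕ} (χ : Cusp F n) :
    (χ.1 : GL (Fin n) F → ℂ) 1 = ∏ i ∈ Finset.Ico 1 n, ((Fintype.card F : ℂ) ^ i - 1) := by
  obtain ⟨ψ, hψ⟩ := exists_ne_one (F := F)
  rw [degree_of_cusp hψ χ.2.1 (irr_isClassFunction χ.1) χ.2.2, whit_cusp_eq_one hψ χ, one_mul]

theorem totient_le_card_cusp {n : ℕ} (hn : 0 < n) :
    Nat.totient (Fintype.card F ^ n - 1) / n ≤ Nat.card (Cusp F n) :=
  card_cusp_eq (F := F) n ▸ totient_le_card_irrPoly hn

end CfsgLib.GLCusp
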