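import Mathlib

/-!
Pattern subgroups of `GL_ι(F)`, reindexing and permutation matrices.
-/

set_option autoImplicit false
set_option linter.unusedSectionVars false

namespace CfsgLib.GLCusp

open Matrix Finset

/-- A pattern: a transitive irreflexive relation. -/
structure Pat (ι : Type*) where
  r : ι → ι → Prop
  trans : ∀ {i j k}, r i j → r j k → r i k
  irrefl : ∀ i, ¬ r i i

variable {F : Type*} [Field F] [Fintype F] [DecidableEq F]
variable {ι κ : Type*} [Fintype ι] [DecidableEq ι] [Fintype κ] [DecidableEq κ]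

/-- A finite submonoid of a group as a subgroup. -/
def finSubgroup {G : Type*} [Group G] [Finite G] (S : Submonoid G) : Subgroup G where
  toSubmonoid := S
  inv_mem' := fun {x} hx => by
    obtain ⟨k, hk⟩ : ∃ k, orderOf x = k + 1 := ⟨orderOf x - 1, by have := orderOf_pos x; omega⟩
    have : x ^ k = x⁻¹ := eq_inv_of_mul_eq_one_left (by rw [← pow_succ, ← hk, pow_orderOf_eq_one])
    show x⁻¹ ∈ S
    exact this ▸ pow_mem (show x ∈ S from hx) k

/-- The pattern subgroup. -/
def patGroup (P : Pat ι) : Subgroup (GL ι F) :=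
  finSubgroup
    { carrier := {g | ∀ i j, ¬ P.r i j → (g : Matrix ι ι F) i j = (1 : Matrix ι ι F) i j}
      one_mem' := fun i j _ => rfl
      mul_mem' := fun {a b} ha hb i j h => by
        rw [Units.val_mul, Matrix.mul_apply, Finset.sum_eq_single i]
        · rw [ha i i (P.irrefl i), hb i j h, Matrix.one_apply_eq, one_mul]
        · intro l _ hl
          by_cases h1 : P.r i l
          · rw [hb l j fun h2 => h (P.trans h1 h2), Matrix.one_apply_ne, mul_zero]
            rintro rfl
            exact h h1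
          · rw [ha i l h1, Matrix.one_apply_ne (Ne.symm hl), zero_mul]
        · simp }

theorem mem_patGroup {P : Pat ι} {g : GL ι F} :
    g ∈ patGroup P ↔ ∀ i j, ¬ P.r i j → (g : Matrix ι ι F) i j = (1 : Matrix ι ι F) i j := Iff.rfl

noncomputable instance fintypePatGroup (P : Pat ι) : Fintype (patGroup P : Subgroup (GL ι F)) :=
  Fintype.ofFinite _

theorem patGroup_mono {P Q : Pat ι} (h : ∀ i j, P.r i j → Q.r i j) :
    (patGroup P : Subgroup (GL ι F)) ≤ patGroup Q :=
  fun _ hg i j hn => hg i j fun hh => hn (h i j hh)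

theorem patMat_injective (P : Pat ι) (M : Matrix ι ι F)
    (hM : ∀ i j, ¬ P.r i j → M i j = (1 : Matrix ι ι F) i j) : Function.Injective M.mulVec := by
  intro v v' hv
  have h0 : M *ᵥ (v - v') = 0 := by rw [Matrix.mulVec_sub, hv, sub_self]
  set w := v - v'
  have : IsTrans ι (fun a b => P.r b a) := ⟨fun a b c h1 h2 => P.trans h2 h1⟩
  have : Std.Irrefl (fun a b => P.r b a) := ⟨P.irrefl⟩
  have hwf : WellFounded (fun a b => P.r b a) := Finite.wellFounded_of_trans_of_irrefl _
  have : w = 0 := funext fun i => hwf.induction i fun i ih => by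
    have h := congrFun h0 i
    rw [Matrix.mulVec, dotProduct, Finset.sum_eq_single i] at h
    · rwa [hM i i (P.irrefl i), Matrix.one_apply_eq, one_mul] at h
    · intro l _ hl
      by_cases h1 : P.r i l
      · rw [ih l h1]; simp
      · rw [hM i l h1, Matrix.one_apply_ne (Ne.symm hl), zero_mul]
    · simp
  exact sub_eq_zero.mp this

/-- The pattern subgroup is an affine space. -/
noncomputable def patEquiv (P : Pat ι) : (patGroup P : Subgroup (GL ι F)) ≃ ({p : ι × ι // P.r p.1 p.2} → F) where
  toFun g p := ((g : GL ι F) : Matrix ι ι F) p.1.1 p.1.2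
  invFun f := by
    classical
    let M : Matrix ι ι F := Matrix.of fun i j => if h : P.r i j then f ⟨(i, j), h⟩ else (1 : Matrix ι ι F) i j
    refine ⟨(Matrix.mulVec_injective_iff_isUnit.mp (patMat_injective P M fun i j h => by simp [M, h])).unit,
      fun i j h => ?_⟩
    simp [M, h]
  left_inv g := by
    refine Subtype.ext (Units.ext (Matrix.ext fun i j => ?_))
    simp only [IsUnit.unit_spec, Matrix.of_apply]
    split_ifs with h
    · rfl
    · exact (g.2 i j h).symm
  right_inv f := by
    funext p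
    simp [p.2]

theorem card_patGroup (P : Pat ι) :
    Nat.card (patGroup P : Subgroup (GL ι F)) = Fintype.card F ^ Nat.card {p : ι × ι // P.r p.1 p.2} := by
  classical
  rw [Nat.card_congr (patEquiv P), Nat.card_fun, Nat.card_eq_fintype_card]

theorem eq_one_of_mem_disjoint {P Q : Pat ι} (h : ∀ i j, P.r i j → ¬ Q.r i j) {g : GL ι F}
    (hP : g ∈ patGroup P) (hQ : g ∈ patGroup Q) : g = 1 :=
  Units.ext (Matrix.ext fun i j => by
    by_cases h1 : P.r i j
    · exact hQ i j (h i j h1)
    · exact hP i j h1)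

/-- A pattern group is the product of two disjoint sub-patterns filling it. -/
theorem sum_factor {M : Type*} [AddCommMonoid M] (P A B : Pat ι) (hu : ∀ i j, P.r i j ↔ A.r i j ∨ B.r i j)
    (hd : ∀ i j, A.r i j → ¬ B.r i j) (f : GL ι F → M)
 :
    ∑ u : (patGroup P : Subgroup (GL ι F)), f u =
      ∑ a : (patGroup A : Subgroup (GL ι F)), ∑ b : (patGroup B : Subgroup (GL ι F)), f (a * b) := by
  classical
  let φ : Prod (patGroup A : Subgroup (GL ι F)) (patGroup B : Subgroup (GL ι F)) → (patGroup P : Subgroup (GL ι F)) :=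
    fun x => ⟨x.1 * x.2, mul_mem (patGroup_mono (fun i j h => (hu i j).mpr (Or.inl h)) x.1.2)
      (patGroup_mono (fun i j h => (hu i j).mpr (Or.inr h)) x.2.2)⟩
  have hinj : Function.Injective φ := by
    rintro ⟨a, b⟩ ⟨a', b'⟩ h
    have h' : (a : GL ι F) * b = a' * b' := congrArg Subtype.val h
    have e : (a' : GL ι F)⁻¹ * a = b' * (b : GL ι F)⁻¹ := by
      rw [eq_mul_inv_iff_mul_eq, mul_assoc, h', inv_mul_cancel_left]
    have h1 : (a' : GL ι F)⁻¹ * a = 1 :=
      eq_one_of_mem_disjoint hd (mul_mem (inv_mem a'.2) a.2) (e ▸ mul_mem b'.2 (inv_mem b.2))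
    exact Prod.ext (Subtype.ext (inv_mul_eq_one.mp h1).symm)
      (Subtype.ext (mul_inv_eq_one.mp (e.symm.trans h1)).symm)
  have hcard : Nat.card (Prod (patGroup A : Subgroup (GL ι F)) (patGroup B : Subgroup (GL ι F))) =
      Nat.card (patGroup P : Subgroup (GL ι F)) := by
    rw [Nat.card_prod, card_patGroup, card_patGroup, card_patGroup, ← pow_add,
      Nat.card_congr (Equiv.subtypeEquivRight fun p : ι × ι => hu p.1 p.2)]
    congr 1
    simp only [Nat.card_eq_fintype_card]
    rw [Fintype.card_subtype_or_disjoint]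
    rw [Pi.disjoint_iff]
    intro p
    rw [Prop.disjoint_iff]
    exact fun h => hd _ _ h.1 h.2
  have hbij : Function.Bijective φ := (Nat.bijective_iff_injective_and_card φ).mpr ⟨hinj, hcard⟩
  rw [← Fintype.sum_prod_type (f := fun x : Prod (patGroup A : Subgroup (GL ι F)) (patGroup B : Subgroup (GL ι F)) =>
    f (x.1 * x.2))]
  exact (Fintype.sum_equiv (Equiv.ofBijective φ hbij) _ _ fun x => rfl).symm

/-! ### Reindexing, permutation matrices, elementary matrices -/

/-- Reindexing. -/
def reGL (e : ι ≃ κ) : GL ι F ≃* GL κ F := Units.mapEquiv (Matrix.reindexAlgEquiv F F e).toMulEquiv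

@[simp] theorem reGL_apply (e : ι ≃ κ) (g : GL ι F) (i j : κ) :
    (reGL e g : Matrix κ κ F) i j = (g : Matrix ι ι F) (e.symm i) (e.symm j) := rfl

theorem reGL_trans {μ : Type*} [Fintype μ] [DecidableEq μ] (e : ι ≃ κ) (e' : κ ≃ μ) (g : GL ι F) :
    reGL e' (reGL e g) = reGL (e.trans e') g := Units.ext (Matrix.ext fun i j => rfl)

/-- The permutation matrix sending `e_j` to `e_{π j}`. -/
def pm (π : Equiv.Perm ι) : GL ι F where
  val := Matrix.of fun i j => if i = π j then 1 else 0
  inv := Matrix.of fun i j => if π i = j then 1 else 0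
  val_inv := by
    ext i j
    rw [Matrix.mul_apply, Finset.sum_eq_single (π.symm i)]
    · simp [Matrix.one_apply]
    · intro l _ hl
      rw [Matrix.of_apply, if_neg, zero_mul]
      rintro rfl
      exact hl (π.symm_apply_apply l).symm
    · simp
  inv_val := by
    ext i j
    rw [Matrix.mul_apply, Finset.sum_eq_single (π i)]
    · simp [Matrix.one_apply]
    · intro l _ hl
      rw [Matrix.of_apply, if_neg (Ne.symm hl), zero_mul]
    · simp

@[simp] theorem pm_apply (π : Equiv.Perm ι) (i j : ι) :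
    (pm π : GL ι F).val i j = if i = π j then 1 else 0 := rfl

theorem pm_mul_apply (π : Equiv.Perm ι) (M : Matrix ι ι F) (i j : ι) :
    ((pm π : GL ι F).val * M) (π i) j = M i j := by
  rw [Matrix.mul_apply, Finset.sum_eq_single i]
  · simp
  · intro l _ hl
    rw [pm_apply, if_neg fun h => hl (π.injective h).symm, zero_mul]
  · simp

theorem mul_pm_apply (π : Equiv.Perm ι) (M : Matrix ι ι F) (i j : ι) :
    (M * (pm π : GL ι F).val) i j = M i (π j) := by
  rw [Matrix.mul_apply, Finset.sum_eq_single (π j)]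
  · simp
  · intro l _ hl
    rw [pm_apply, if_neg hl, mul_zero]
  · simp

theorem pm_conj (π : Equiv.Perm ι) (g : GL ι F) : pm π * g * (pm π)⁻¹ = reGL π g := by
  rw [mul_inv_eq_iff_eq_mul]
  refine Units.ext (Matrix.ext fun i j => ?_)
  obtain ⟨i, rfl⟩ := π.surjective i
  rw [Units.val_mul, Units.val_mul, pm_mul_apply, mul_pm_apply]
  simp

theorem inv_pm_conj_apply (π : Equiv.Perm ι) (g : GL ι F) (i j : ι) :
    ((pm π)⁻¹ * g * pm π : GL ι F).val i j = g.val (π i) (π j) := by
  have h := pm_conj π ((pm π)⁻¹ * g * pm π)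
  rw [show pm π * ((pm π)⁻¹ * g * pm π) * (pm π : GL ι F)⁻¹ = g by group] at h
  have h2 := congrArg (fun M : GL ι F => M.val (π i) (π j)) h
  simpa only [reGL_apply, Equiv.symm_apply_apply] using h2.symm

theorem pm_mul (π π' : Equiv.Perm ι) : (pm π : GL ι F) * pm π' = pm (π * π') :=
  Units.ext (Matrix.ext fun i j => by rw [Units.val_mul, mul_pm_apply]; simp only [pm_apply, Equiv.Perm.mul_apply]; split_ifs with h <;> simp [h])

theorem pm_one : (pm 1 : GL ι F) = 1 :=
  Units.ext (Matrix.ext fun i j => by simp only [pm_apply, Equiv.Perm.coe_one, id_eq, Units.val_one, Matrix.one_apply]; split_ifs with h <;> simp [h])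

theorem pm_inv (π : Equiv.Perm ι) : (pm π : GL ι F)⁻¹ = pm π⁻¹ :=
  inv_eq_of_mul_eq_one_right (by rw [pm_mul, mul_inv_cancel, pm_one])

theorem classFunction_reGL {χ : GL ι F → ℂ} (hχ : ∀ g h : GL ι F, χ (h * g * h⁻¹) = χ g) (π : ι ≃ ι)
    (g : GL ι F) : χ (reGL π g) = χ g := by
  rw [← pm_conj π g, hχ]

/-- An elementary matrix. -/
def elMat {i j : ι} (h : i ≠ j) (t : F) : GL ι F where
  val := Matrix.transvection i j t
  inv := Matrix.transvection i j (-t)
  val_inv := by rw [Matrix.transvection_mul_transvection_same _ _ h, add_neg_cancel, Matrix.transvection_zero]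
  inv_val := by rw [Matrix.transvection_mul_transvection_same _ _ h, neg_add_cancel, Matrix.transvection_zero]

theorem elMat_apply {i j : ι} (h : i ≠ j) (t : F) (a b : ι) :
    (elMat h t).val a b = (1 : Matrix ι ι F) a b + if a = i ∧ b = j then t else 0 := by
  show (Matrix.transvection i j t) a b = _
  rw [Matrix.transvection, Matrix.add_apply, Matrix.single_apply]
  simp [eq_comm]

theorem elMat_mem {P : Pat ι} {i j : ι} (h : i ≠ j) (hr : P.r i j) (t : F) : elMat h t ∈ patGroup P := by
  intro a b hn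
  rw [elMat_apply, if_neg, add_zero]
  rintro ⟨rfl, rfl⟩
  exact hn hr

end CfsgLib.GLCusp
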