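import Mathlib

/-!
Permutations that reverse the order of the runs of a set of breakpoints.
-/

set_option autoImplicit false
set_option linter.unusedSectionVars false

namespace CfsgLib.GLCusp

variable (m : ℕ) (D : ℕ → Prop) [DecidablePred D]

theorem runEnd_exists (a : ℕ) : ∃ e, a ≤ e ∧ (D e ∨ m ≤ e) := ⟨max a m, le_max_left _ _, Or.inr (le_max_right _ _)⟩

/-- The end of the run. -/
def runEnd (a : ℕ) : ℕ := Nat.find (runEnd_exists m D a)

/-- The start of the run. -/
def runStart (a : ℕ) : ℕ := Nat.findGreatest (fun s => s = 0 ∨ D (s - 1)) a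

/-- The run reversing map. -/
def runMap (a : ℕ) : ℕ := m - runEnd m D a + (a - runStart D a)

theorem le_runEnd (a : ℕ) : a ≤ runEnd m D a := (Nat.find_spec (runEnd_exists m D a)).1

theorem runEnd_spec (a : ℕ) : D (runEnd m D a) ∨ m ≤ runEnd m D a := (Nat.find_spec (runEnd_exists m D a)).2

theorem runEnd_le {a : ℕ} (ha : a ≤ m) : runEnd m D a ≤ m := Nat.find_min' _ ⟨ha, Or.inr le_rfl⟩

theorem runStart_le (a : ℕ) : runStart D a ≤ a := Nat.findGreatest_le a

theorem runStart_spec (a : ℕ) : runStart D a = 0 ∨ D (runStart D a - 1) :=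
  Nat.findGreatest_spec (P := fun s => s = 0 ∨ D (s - 1)) (Nat.zero_le a) (Or.inl rfl)

theorem not_D_of_mem {a i : ℕ} (ha : a ≤ m) (h1 : runStart D a ≤ i) (h2 : i < runEnd m D a) : ¬ D i ∧ i < m := by
  rcases Nat.lt_or_ge i a with h | h
  · have h3 := Nat.findGreatest_is_greatest (P := fun s => s = 0 ∨ D (s - 1)) (n := a) (k := i + 1)
      (Nat.lt_succ_of_le h1) h
    simp only [Nat.add_sub_cancel, not_or] at h3
    refine ⟨h3.2, ?_⟩
    omega
  · have h3 := Nat.find_min (runEnd_exists m D a) h2
    simp only [not_and, not_or, not_le] at h3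
    exact h3 h

theorem run_eq {a v : ℕ} (ha : a ≤ m) (h1 : runStart D a ≤ v) (h2 : v ≤ runEnd m D a) :
    runEnd m D v = runEnd m D a ∧ runStart D v = runStart D a := by
  refine ⟨(Nat.find_eq_iff _).mpr ⟨⟨h2, runEnd_spec m D a⟩, fun e he hh => ?_⟩, ?_⟩
  · have := not_D_of_mem m D ha (h1.trans hh.1) he
    rcases hh.2 with h | h
    · exact this.1 h
    · omega
  · refine Nat.findGreatest_eq_iff.mpr ⟨h1, fun _ => runStart_spec D a, fun k hk hk' hh => ?_⟩
    rcases hh with h | h
    · omega
    · exact (not_D_of_mem m D (i := k - 1) ha (by omega) (by omega)).1 h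

theorem runMap_le {a : ℕ} (ha : a ≤ m) : runMap m D a ≤ m := by
  have := le_runEnd m D a
  have := runEnd_le m D ha
  have := runStart_le D a
  unfold runMap
  omega

theorem runMap_mirror {a : ℕ} (ha : a ≤ m) : runMap m D (m - runMap m D a) = m - a ∧
    runStart D a ≤ m - runMap m D a ∧ m - runMap m D a ≤ runEnd m D a := by
  have h1 := le_runEnd m D a
  have h2 := runEnd_le m D ha
  have h3 := runStart_le D a
  have hm : m - runMap m D a = runEnd m D a - (a - runStart D a) := by unfold runMap; omega
  rw [hm]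
  obtain ⟨he, hs⟩ := run_eq m D (a := a) (v := runEnd m D a - (a - runStart D a)) ha (by omega) (by omega)
  refine ⟨?_, by omega, by omega⟩
  rw [runMap, he, hs]
  omega

theorem runMap_succ_of_not {a : ℕ} (h : ¬ D a) (ha : a < m) : runMap m D (a + 1) = runMap m D a + 1 := by
  have h1 := le_runEnd m D a
  have h2 := runEnd_le m D ha.le
  have h3 := runStart_le D a
  have hne : runEnd m D a ≠ a := fun e => by
    rcases runEnd_spec m D a with h' | h'
    · exact h (e ▸ h')
    · omega
  obtain ⟨he, hs⟩ := run_eq m D (a := a) (v := a + 1) ha.le (by omega) (by omega)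
  rw [runMap, runMap, he, hs]
  omega

theorem runMap_succ_of_D {a : ℕ} (h : D a) (ha : a < m) : runMap m D (a + 1) < runMap m D a := by
  have he : runEnd m D a = a := le_antisymm (Nat.find_min' _ ⟨le_rfl, Or.inl h⟩) (le_runEnd m D a)
  have hs : runStart D (a + 1) = a + 1 :=
    le_antisymm (runStart_le D _) (Nat.le_findGreatest le_rfl (Or.inr (by simpa using h)))
  have h1 := le_runEnd m D (a + 1)
  have h2 := runEnd_le m D (a := a + 1) ha
  rw [runMap, runMap, he, hs]
  omega

variable {m}

/-- A permutation all of whose increasing steps and whose inverse's increasing steps have length one is the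
run reversing map of its descents. -/
theorem eq_runMap (w : Equiv.Perm (Fin (m + 1)))
    (hB : ∀ i j : Fin (m + 1), (i : ℕ) + 1 = j → w i < w j → (w j : ℕ) = w i + 1)
    (hA : ∀ a b : Fin (m + 1), (a : ℕ) + 1 = b → w.symm a < w.symm b → (w.symm b : ℕ) = w.symm a + 1)
    (hD : ∀ i j : Fin (m + 1), (i : ℕ) + 1 = j → (D i ↔ ¬ (w j : ℕ) = w i + 1)) (a : Fin (m + 1)) :
    (w a : ℕ) = runMap m D a := by
  classical
  have htop : ∀ e : Fin (m + 1), D e ∨ m ≤ e → ∀ k : Fin (m + 1), k ≤ e → m - (e : ℕ) ≤ w k := by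
    intro e he k hk
    set I := (Finset.univ.filter fun k => k ≤ e).map w.toEmbedding with hI
    have hup : ∀ c c' : Fin (m + 1), (c : ℕ) + 1 = c' → c ∈ I → c' ∈ I := by
      intro c c' hcc hc
      simp only [hI, Finset.mem_map_equiv, Finset.mem_filter, Finset.mem_univ, true_and] at hc ⊢
      by_contra hnot
      push Not at hnot
      have hlt : w.symm c < w.symm c' := lt_of_le_of_lt hc hnot
      have hadj := hA c c' hcc hlt
      have hce : w.symm c = e := by
        have h1 : (w.symm c : ℕ) ≤ e := hc
        have h2 : (e : ℕ) < w.symm c' := hnot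
        exact Fin.ext (by omega)
      rw [hce] at hadj
      rcases he with he | he
      · refine (hD e (w.symm c') hadj.symm).mp he ?_
        rw [← hce]
        simp [hcc]
      · have := (w.symm c').2
        omega
    have hall : ∀ c : Fin (m + 1), w k ≤ c → c ∈ I := by
      intro c hc
      obtain ⟨t, ht⟩ : ∃ t, (c : ℕ) = w k + t := ⟨c - w k, by have : (w k : ℕ) ≤ c := hc; omega⟩
      induction t generalizing c with
      | zero =>
        have : c = w k := Fin.ext (by omega)
        subst this
        simp [hI, hk]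
      | succ t ih =>
        have hlt : (w k : ℕ) + t < m + 1 := by have := c.2; omega
        exact hup ⟨(w k : ℕ) + t, hlt⟩ c (by simp; omega) (ih ⟨(w k : ℕ) + t, hlt⟩ (by simp [Fin.le_def]) rfl)
    have hcard := Finset.card_le_card (s := Finset.Ici (w k)) (t := I) fun c hc => hall c (Finset.mem_Ici.mp hc)
    rw [Fin.card_Ici, hI, Finset.card_map, Finset.filter_ge_eq_Iic, Fin.card_Iic] at hcard
    omega
  have hexact : ∀ e : Fin (m + 1), D e ∨ m ≤ e → ∃ k : Fin (m + 1), k ≤ e ∧ (w k : ℕ) = m - e := by
    intro e he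
    have hsub : (Finset.univ.filter fun k => k ≤ e).map w.toEmbedding ⊆
        Finset.univ.filter fun c : Fin (m + 1) => m - (e : ℕ) ≤ c := by
      intro c hc
      simp only [Finset.mem_map_equiv, Finset.mem_filter, Finset.mem_univ, true_and] at hc ⊢
      have := htop e he (w.symm c) hc
      simpa using this
    have heq := Finset.eq_of_subset_of_card_le hsub (by
      rw [Finset.card_map, Finset.filter_ge_eq_Iic, Fin.card_Iic]
      have : (Finset.univ.filter fun c : Fin (m + 1) => m - (e : ℕ) ≤ c) = Finset.Ici (⟨m - e, by omega⟩ : Fin (m + 1)) := by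
        ext c; simp [Fin.le_def]
      rw [this, Fin.card_Ici]
      have := e.2
      simp; omega)
    have hmem : (⟨m - e, by omega⟩ : Fin (m + 1)) ∈ Finset.univ.filter fun c : Fin (m + 1) => m - (e : ℕ) ≤ c := by
      simp; omega
    rw [← heq] at hmem
    simp only [Finset.mem_map_equiv, Finset.mem_filter, Finset.mem_univ, true_and] at hmem
    exact ⟨_, hmem, by simp⟩
  have ha : (a : ℕ) ≤ m := Nat.lt_succ_iff.mp a.2
  set s := runStart D a with hs
  set e := runEnd m D a with he
  have h1 := le_runEnd m D a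
  have h2 := runEnd_le m D ha
  have h3 := runStart_le D a
  have hrun : ∀ t, ∀ v : Fin (m + 1), (v : ℕ) = s + t → (v : ℕ) ≤ e →
      ∀ s' : Fin (m + 1), (s' : ℕ) = s → (w v : ℕ) = w s' + t := by
    intro t
    induction t with
    | zero => intro v hv _ s' hs'; rw [show v = s' from Fin.ext (by omega)]; rfl
    | succ t ih =>
      intro v hv hve s' hs'
      have hlt : s + t < m + 1 := by have := v.2; omega
      have h := ih ⟨s + t, hlt⟩ rfl (by simp; omega) s' hs'
      have hnd := not_D_of_mem m D (a := (a : ℕ)) (i := s + t) ha (by omega) (by omega)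
      have := (hD ⟨s + t, hlt⟩ v (by simp; omega)).not.mp hnd.1
      push Not at this
      omega
  obtain ⟨k, hk, hwk⟩ := hexact ⟨e, by omega⟩ (runEnd_spec m D a)
  have hks : s ≤ (k : ℕ) := by
    by_contra hlt
    push Not at hlt
    rcases runStart_spec D a with h | h
    · omega
    · have := htop ⟨s - 1, by omega⟩ (Or.inl h) k (by simp [Fin.le_def]; omega)
      simp at this hwk
      omega
  have hs0 := htop ⟨e, by omega⟩ (runEnd_spec m D a) ⟨s, by omega⟩ (by simp [Fin.le_def]; omega)
  have hk' := hrun ((k : ℕ) - s) k (by omega) hk ⟨s, by omega⟩ rfl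
  have ha' := hrun ((a : ℕ) - s) a (by omega) (by omega) ⟨s, by omega⟩ rfl
  have hkdef : runMap m D a = m - e + ((a : ℕ) - s) := rfl
  simp at hwk hs0
  omega

end CfsgLib.GLCusp
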