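import Cfsg.Agent.Lib.GLCusp.Whittaker
import Cfsg.Agent.Lib.GLCusp.Runs
import Cfsg.Agent.Lib.PronormalPSU.Bruhat

/-!
Monomial matrices carrying the Whittaker character on both sides.
-/

set_option autoImplicit false
set_option linter.unusedSectionVars false

namespace CfsgLib.GLCusp

open Matrix Finset
open scoped ComplexConjugate

variable {F : Type*} [Field F] [Fintype F] [DecidableEq F] {n : ℕ}

theorem uni_eq_uniGL : uni n F = CfsgLib.PronormalPSU.uniGL n F := by
  ext g
  rw [CfsgLib.PronormalPSU.mem_uniGL, mem_patGroup]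
  refine ⟨fun h i j hji => ?_, fun h i j hn => ?_⟩
  · rw [h i j (not_lt.mpr hji), Matrix.one_apply]
  · rw [h i j (not_lt.mp hn), Matrix.one_apply]

/-- A monomial matrix. -/
def mono (w : Equiv.Perm (Fin n)) (d : Fin n → Fˣ) : GL (Fin n) F :=
  pm w * ⟨Matrix.diagonal fun i => (d i : F), Matrix.diagonal fun i => ((d i)⁻¹ : Fˣ),
    by simp [Matrix.diagonal_mul_diagonal], by simp [Matrix.diagonal_mul_diagonal]⟩

theorem mono_apply (w : Equiv.Perm (Fin n)) (d : Fin n → Fˣ) (i j : Fin n) :
    (mono w d).val i j = if i = w j then (d j : F) else 0 := by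
  rw [mono, Units.val_mul, Matrix.mul_diagonal, pm_apply]
  split_ifs <;> simp

theorem mono_isMono (w : Equiv.Perm (Fin n)) (d : Fin n → Fˣ) :
    CfsgLib.PronormalPSU.IsMono (mono w d) w (fun j => (d j : F)) :=
  ⟨fun j => (d j).ne_zero, fun i j => mono_apply w d i j⟩

theorem exists_mono_form (g : GL (Fin n) F) :
    ∃ u ∈ uni n F, ∃ v ∈ uni n F, ∃ (w : Equiv.Perm (Fin n)) (d : Fin n → Fˣ), g = u * mono w d * v := by
  obtain ⟨w, d, a, m, v, hm, ha, hv, rfl⟩ := CfsgLib.PronormalPSU.normalForm_exists g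
  rw [uni_eq_uniGL]
  refine ⟨a, CfsgLib.PronormalPSU.leftU_le w ha, v, hv, w, fun j => Units.mk0 (d j) (hm.1 j), ?_⟩
  have : m = mono w fun j => Units.mk0 (d j) (hm.1 j) := Units.ext (Matrix.ext fun i j => by
    rw [mono_apply, hm.2]; rfl)
  rw [← this]

theorem mono_form_unique {u v : GL (Fin n) F} (hu : u ∈ uni n F) (hv : v ∈ uni n F) {w w' : Equiv.Perm (Fin n)}
    {d d' : Fin n → Fˣ} (h : mono w' d' = u * mono w d * v) : w' = w ∧ d' = d := by
  rw [uni_eq_uniGL] at hu hv
  have h' : u * mono w d = mono w' d' * v⁻¹ := by rw [h, mul_inv_cancel_right]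
  obtain ⟨rfl, hm⟩ := CfsgLib.PronormalPSU.mono_unique hu (inv_mem hv) (mono_isMono w d) (mono_isMono w' d') h'
  refine ⟨rfl, funext fun j => Units.ext ?_⟩
  have := congrArg (fun M : GL (Fin n) F => M.val (w j) j) hm
  simpa [mono_apply] using this.symm

theorem mono_conj_apply (w : Equiv.Perm (Fin n)) (d : Fin n → Fˣ) (x : GL (Fin n) F) (i j : Fin n) :
    ((mono w d)⁻¹ * x * mono w d).val i j = ((d i)⁻¹ : Fˣ) * x.val (w i) (w j) * (d j : F) := by
  rw [mono, _root_.mul_inv_rev, mul_assoc, mul_assoc, mul_assoc, ← mul_assoc x, ← mul_assoc (pm w)⁻¹, ← mul_assoc (pm w)⁻¹]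
  rw [Units.val_mul, Units.val_mul, Units.inv_mk, Matrix.diagonal_mul, Matrix.mul_diagonal, inv_pm_conj_apply]


/-- The monomial matrices on which the Whittaker character agrees from both sides. -/
def Rel (w : Equiv.Perm (Fin n)) (d : Fin n → Fˣ) : Prop :=
  (∀ i j : Fin n, (i : ℕ) + 1 = j → w i < w j → (w j : ℕ) = w i + 1 ∧ d j = d i) ∧
    ∀ a b : Fin n, (a : ℕ) + 1 = b → w.symm a < w.symm b → (w.symm b : ℕ) = w.symm a + 1

theorem supSum_elMat {i j : Fin n} (h : i ≠ j) (t : F) :
    supSum (elMat h t).val = if (i : ℕ) + 1 = j then t else 0 := by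
  have h1 := supSum_one (F := F) (n := n)
  simp only [supSum] at h1 ⊢
  simp only [elMat_apply]
  rw [Finset.sum_congr rfl fun (a : Fin n) _ => Finset.sum_congr rfl fun (b : Fin n) _ => show
    (if (a : ℕ) + 1 = b then (1 : Matrix (Fin n) (Fin n) F) a b + (if a = i ∧ b = j then t else 0) else 0) =
      (if (a : ℕ) + 1 = b then (1 : Matrix (Fin n) (Fin n) F) a b else 0) +
        (if (a : ℕ) + 1 = b then (if a = i ∧ b = j then t else 0) else 0) from by split_ifs <;> simp]
  simp only [Finset.sum_add_distrib]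
  rw [h1, zero_add, Finset.sum_eq_single i, Finset.sum_eq_single j]
  · simp
  · intro b _ hb
    simp [hb]
  · simp
  · intro a _ ha
    simp [ha]
  · simp

theorem mono_conj_elMat (w : Equiv.Perm (Fin n)) (d : Fin n → Fˣ) {i j : Fin n} (h : i ≠ j) (t : F) :
    (mono w d)⁻¹ * elMat (w.injective.ne h) t * mono w d = elMat h (((d i)⁻¹ : Fˣ) * t * (d j : F)) := by
  refine Units.ext (Matrix.ext fun a b => ?_)
  rw [mono_conj_apply, elMat_apply, elMat_apply, mul_add, add_mul]
  congr 1
  · by_cases hab : a = b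
    · subst hab
      simp
    · simp [Matrix.one_apply, hab]
  · simp only [w.injective.eq_iff]
    split_ifs with hh
    · rw [hh.1, hh.2]
    · simp

theorem exists_witness {ψ : AddChar F ℂ} (hψ : ψ ≠ 1) {w : Equiv.Perm (Fin n)} {d : Fin n → Fˣ} (h : ¬ Rel w d) :
    ∃ a ∈ uni n F, (mono w d)⁻¹ * a * mono w d ∈ uni n F ∧
      theta ψ ((mono w d)⁻¹ * a * mono w d) ≠ theta ψ a := by
  by_cases hB : ∀ i j : Fin n, (i : ℕ) + 1 = j → w i < w j → (w j : ℕ) = w i + 1 ∧ d j = d i
  · replace h := not_and.mp h hB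
    simp only [not_forall] at h
    obtain ⟨a, b, hab, hlt, hne⟩ := h
    obtain ⟨x, hx⟩ := AddChar.ne_one_iff.mp hψ
    have h' : w.symm a ≠ w.symm b := ne_of_lt hlt
    refine ⟨elMat (w.injective.ne h') x, ?_, ?_, ?_⟩
    · exact elMat_mem _ (show w (w.symm a) < w (w.symm b) by rw [w.apply_symm_apply, w.apply_symm_apply, Fin.lt_def]; omega) x
    · rw [mono_conj_elMat w d h']
      exact elMat_mem _ hlt _
    · rw [mono_conj_elMat w d h', theta, theta, supSum_elMat, supSum_elMat, if_neg fun e => hne e.symm,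
        if_pos (by simpa using hab), AddChar.map_zero_eq_one]
      exact hx.symm
  · simp only [not_forall] at hB
    obtain ⟨i, j, hij, hlt, hne⟩ := hB
    have h' : i ≠ j := fun e => by rw [e] at hij; omega
    have hcne : ((d i)⁻¹ : Fˣ) * (d j : F) ≠ 0 := mul_ne_zero (Units.ne_zero _) (Units.ne_zero _)
    by_cases hadj : (w i : ℕ) + 1 = w j
    · have hd : (((d i)⁻¹ : Fˣ) : F) * (d j : F) - 1 ≠ 0 := by
        intro e
        refine hne ⟨hadj.symm, ?_⟩
        rw [sub_eq_zero, ← Units.val_mul, Units.val_eq_one, inv_mul_eq_one] at e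
        exact e.symm
      obtain ⟨t, ht⟩ := exists_psi_ne hψ hd
      refine ⟨elMat (w.injective.ne h') t, elMat_mem _ hlt t, ?_, fun e => ht ?_⟩
      · rw [mono_conj_elMat w d h']
        exact elMat_mem _ (show i < j by rw [Fin.lt_def]; omega) _
      · rw [mono_conj_elMat w d h', theta, theta, supSum_elMat, supSum_elMat, if_pos hij, if_pos hadj] at e
        refine mul_right_cancel₀ (AddChar.val_isUnit ψ t).ne_zero ?_
        rw [one_mul, ← AddChar.map_add_eq_mul, ← e]
        congr 1
        ring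
    · obtain ⟨t, ht⟩ := exists_psi_ne hψ hcne
      refine ⟨elMat (w.injective.ne h') t, elMat_mem _ hlt t, ?_, ?_⟩
      · rw [mono_conj_elMat w d h']
        exact elMat_mem _ (show i < j by rw [Fin.lt_def]; omega) _
      · rw [mono_conj_elMat w d h', theta, theta, supSum_elMat, supSum_elMat, if_pos hij, if_neg hadj,
          AddChar.map_zero_eq_one]
        rwa [mul_right_comm]

theorem theta_of_rel (ψ : AddChar F ℂ) {w : Equiv.Perm (Fin n)} {d : Fin n → Fˣ} (h : Rel w d) {u : GL (Fin n) F}
    (hu : u ∈ uni n F) (hu' : (mono w d)⁻¹ * u * mono w d ∈ uni n F) :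
    theta ψ ((mono w d)⁻¹ * u * mono w d) = theta ψ u := by
  rw [theta, theta]
  congr 1
  have hz : ∀ i j : Fin n, ¬ i < j → i ≠ j → u.val (w i) (w j) = 0 := fun i j hn hne => by
    have := hu' i j hn
    rw [mono_conj_apply, Matrix.one_apply_ne hne, mul_eq_zero, mul_eq_zero] at this
    simpa [Units.ne_zero] using this
  calc supSum ((mono w d)⁻¹ * u * mono w d).val
      = ∑ i : Fin n, ∑ j : Fin n, if (w i : ℕ) + 1 = w j then u.val (w i) (w j) else 0 := by
        refine Finset.sum_congr rfl fun i _ => Finset.sum_congr rfl fun j _ => ?_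
        rw [mono_conj_apply]
        by_cases hij : (i : ℕ) + 1 = j
        · have hne : i ≠ j := fun e => by rw [e] at hij; omega
          rw [if_pos hij]
          by_cases hlt : w i < w j
          · obtain ⟨h1, h2⟩ := h.1 i j hij hlt
            rw [if_pos h1.symm, h2, mul_right_comm, ← Units.val_mul, inv_mul_cancel, Units.val_one, one_mul]
          · rw [hu _ _ hlt, Matrix.one_apply_ne (w.injective.ne hne)]
            simp
        · rw [if_neg hij]
          by_cases hadj : (w i : ℕ) + 1 = w j
          · rw [if_pos hadj]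
            refine (hz i j (fun hlt => ?_) (fun e => by rw [e] at hadj; omega)).symm
            have := h.2 (w i) (w j) hadj (by simpa using hlt)
            simp at this
            omega
          · rw [if_neg hadj]
    _ = ∑ a : Fin n, ∑ b : Fin n, if (a : ℕ) + 1 = b then u.val a b else 0 := by
        rw [← Equiv.sum_comp w (fun a => ∑ b : Fin n, if (a : ℕ) + 1 = b then u.val a b else 0)]
        exact Finset.sum_congr rfl fun i _ =>
          Equiv.sum_comp w (fun b => if (w i : ℕ) + 1 = b then u.val (w i) b else 0)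

/-! ### The flip -/

/-- Transposition in the antidiagonal. -/
def flipGL (g : GL (Fin n) F) : GL (Fin n) F where
  val := g.valᵀ.submatrix Fin.revPerm Fin.revPerm
  inv := (g⁻¹).valᵀ.submatrix Fin.revPerm Fin.revPerm
  val_inv := by
    rw [Matrix.submatrix_mul_equiv, ← Matrix.transpose_mul, Units.inv_mul, Matrix.transpose_one,
      Matrix.submatrix_one_equiv]
  inv_val := by
    rw [Matrix.submatrix_mul_equiv, ← Matrix.transpose_mul, Units.mul_inv, Matrix.transpose_one,
      Matrix.submatrix_one_equiv]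

theorem flipGL_apply (g : GL (Fin n) F) (i j : Fin n) : (flipGL g).val i j = g.val j.rev i.rev := rfl

theorem flipGL_one : flipGL (1 : GL (Fin n) F) = 1 :=
  Units.ext (Matrix.ext fun i j => by rw [flipGL_apply, Units.val_one]; simp [Matrix.one_apply, eq_comm])

theorem flipGL_mul (g h : GL (Fin n) F) : flipGL (g * h) = flipGL h * flipGL g :=
  Units.ext (by
    show (g * h).valᵀ.submatrix Fin.revPerm Fin.revPerm = _
    rw [Units.val_mul, Units.val_mul, Matrix.transpose_mul, ← Matrix.submatrix_mul_equiv _ _ _ Fin.revPerm]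
    rfl)

theorem flipGL_flipGL (g : GL (Fin n) F) : flipGL (flipGL g) = g :=
  Units.ext (Matrix.ext fun i j => by simp [flipGL_apply])

theorem flipGL_mem {u : GL (Fin n) F} (hu : u ∈ uni n F) : flipGL u ∈ uni n F := fun i j hn => by
  rw [flipGL_apply, hu j.rev i.rev fun h => hn (Fin.rev_lt_rev.mp h)]
  simp [Matrix.one_apply, eq_comm]

theorem theta_flipGL (ψ : AddChar F ℂ) (u : GL (Fin n) F) : theta ψ (flipGL u) = theta ψ u := by
  rw [theta, theta]
  congr 1
  simp only [supSum, flipGL_apply]
  rw [Finset.sum_comm]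
  rw [← Equiv.sum_comp Fin.revPerm]
  refine Finset.sum_congr rfl fun a _ => ?_
  rw [← Equiv.sum_comp Fin.revPerm]
  refine Finset.sum_congr rfl fun b _ => ?_
  simp only [Fin.revPerm_apply, Fin.rev_rev, Fin.val_rev]
  have := a.2
  have := b.2
  by_cases h : (a : ℕ) + 1 = b
  · rw [if_pos h, if_pos (by omega)]
  · rw [if_neg h, if_neg (by omega)]

section Succ

variable {m : ℕ}

/-- The breakpoints of a permutation. -/
def Breaks (w : Equiv.Perm (Fin (m + 1))) (i : ℕ) : Prop :=
  ∀ h : i < m, ¬ (w ⟨i + 1, by omega⟩ : ℕ) = w ⟨i, by omega⟩ + 1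

noncomputable instance (w : Equiv.Perm (Fin (m + 1))) : DecidablePred (Breaks w) := Classical.decPred _

theorem breaks_iff (w : Equiv.Perm (Fin (m + 1))) (i j : Fin (m + 1)) (h : (i : ℕ) + 1 = j) :
    Breaks w i ↔ ¬ (w j : ℕ) = w i + 1 := by
  have hi : (i : ℕ) < m := by have := j.2; omega
  have e1 : (⟨(i : ℕ) + 1, by omega⟩ : Fin (m + 1)) = j := Fin.ext h
  refine ⟨fun hb => ?_, fun hb _ => ?_⟩
  · have := hb hi; rwa [e1] at this
  · rwa [e1]

theorem Rel.eq_runMap {w : Equiv.Perm (Fin (m + 1))} {d : Fin (m + 1) → Fˣ} (h : Rel w d) (a : Fin (m + 1)) :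
    (w a : ℕ) = runMap m (Breaks w) a :=
  CfsgLib.GLCusp.eq_runMap (Breaks w) w (fun i j hij hlt => (h.1 i j hij hlt).1) h.2 (breaks_iff w) a

theorem Rel.d_run {w : Equiv.Perm (Fin (m + 1))} {d : Fin (m + 1) → Fˣ} (h : Rel w d) (a v : Fin (m + 1))
    (h1 : runStart (Breaks w) a ≤ v) (h2 : (v : ℕ) ≤ runEnd m (Breaks w) a) : d v = d a := by
  have ha : (a : ℕ) ≤ m := Nat.lt_succ_iff.mp a.2
  have hstart : ∀ t, ∀ x : Fin (m + 1), (x : ℕ) = runStart (Breaks w) a + t → (x : ℕ) ≤ runEnd m (Breaks w) a →
      ∀ s : Fin (m + 1), (s : ℕ) = runStart (Breaks w) a → d x = d s := by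
    intro t
    induction t with
    | zero => intro x hx _ s hs; rw [show x = s from Fin.ext (by omega)]
    | succ t ih =>
      intro x hx hxe s hs
      have hlt : runStart (Breaks w) a + t < m + 1 := by have := x.2; omega
      set y : Fin (m + 1) := ⟨runStart (Breaks w) a + t, hlt⟩
      have hnd := (not_D_of_mem m (Breaks w) (a := (a : ℕ)) (i := (y : ℕ)) ha (by simp [y]) (by simp [y]; omega)).1
      rw [breaks_iff w y x (by simp [y]; omega), not_not] at hnd
      rw [(h.1 y x (by simp [y]; omega) (by rw [Fin.lt_def]; omega)).2]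
      exact ih y rfl (by simp [y]; omega) s hs
  have h3 := runStart_le (Breaks w) a
  have h4 := le_runEnd m (Breaks w) a
  rw [hstart ((v : ℕ) - runStart (Breaks w) a) v (by omega) h2 ⟨runStart (Breaks w) a, by omega⟩ rfl,
    hstart ((a : ℕ) - runStart (Breaks w) a) a (by omega) h4 ⟨runStart (Breaks w) a, by omega⟩ rfl]

theorem flipGL_mono_of_rel {w : Equiv.Perm (Fin (m + 1))} {d : Fin (m + 1) → Fˣ} (h : Rel w d) :
    flipGL (mono w d) = mono w d := by
  have key : ∀ j, w (w j).rev = j.rev ∧ d (w j).rev = d j := by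
    intro j
    obtain ⟨hmir, h1, h2⟩ := runMap_mirror m (Breaks w) (a := (j : ℕ)) (Nat.lt_succ_iff.mp j.2)
    have e : ((w j).rev : ℕ) = m - runMap m (Breaks w) j := by
      rw [Fin.val_rev, h.eq_runMap j]; omega
    refine ⟨Fin.ext ?_, h.d_run j _ (e ▸ h1) (e ▸ h2)⟩
    rw [h.eq_runMap, e, hmir, Fin.val_rev]
    omega
  refine Units.ext (Matrix.ext fun i j => ?_)
  rw [flipGL_apply, mono_apply, mono_apply]
  by_cases hij : i = w j
  · subst hij
    rw [if_pos rfl, if_pos (key j).1.symm, (key j).2]
  · rw [if_neg hij, if_neg]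
    intro e
    refine hij ?_
    have := (key i.rev).1
    rw [← e, Fin.rev_rev, Fin.rev_rev] at this
    exact this.symm

theorem card_rel [DecidableEq (Fin (m + 1) → Fˣ)] :
    Nat.card {p : Equiv.Perm (Fin (m + 1)) × (Fin (m + 1) → Fˣ) // Rel p.1 p.2} =
      (Fintype.card F - 1) * Fintype.card F ^ m := by
  classical
  let enc : {p : Equiv.Perm (Fin (m + 1)) × (Fin (m + 1) → Fˣ) // Rel p.1 p.2} → Fˣ × (Fin m → Option Fˣ) := fun p =>
    (p.1.2 0, fun i => if (p.1.1 i.succ : ℕ) = p.1.1 i.castSucc + 1 then none else some (p.1.2 i.succ))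
  have hbij : Function.Bijective enc := by
    refine ⟨fun p q he => ?_, fun c => ?_⟩
    · obtain ⟨⟨w, d⟩, h⟩ := p
      obtain ⟨⟨w', d'⟩, h'⟩ := q
      simp only [enc, Prod.mk.injEq] at he
      obtain ⟨he0, he1⟩ := he
      replace h : Rel w d := h
      replace h' : Rel w' d' := h'
      have hcond : ∀ i : Fin m, (w i.succ : ℕ) = w i.castSucc + 1 ↔ (w' i.succ : ℕ) = w' i.castSucc + 1 := fun i => by
        have := congrFun he1 i
        by_cases h1 : (w i.succ : ℕ) = w i.castSucc + 1 <;> by_cases h2 : (w' i.succ : ℕ) = w' i.castSucc + 1 <;>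
          simp [h1, h2] at this ⊢
      have hbr : Breaks w = Breaks w' := funext fun i => propext
        ⟨fun hb hi => fun e => hb hi ((hcond ⟨i, hi⟩).mpr e), fun hb hi => fun e => hb hi ((hcond ⟨i, hi⟩).mp e)⟩
      have hw : w = w' := Equiv.ext fun a => Fin.ext (by
        rw [h.eq_runMap, h'.eq_runMap]
        congr 1)
      subst hw
      have hd : d = d' := funext fun a => by
        induction a using Fin.induction with
        | zero => exact he0
        | succ i ih =>
          by_cases h1 : (w i.succ : ℕ) = w i.castSucc + 1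
          · have hlt : w i.castSucc < w i.succ := by rw [Fin.lt_def]; omega
            rw [(h.1 i.castSucc i.succ (by simp) hlt).2, (h'.1 i.castSucc i.succ (by simp) hlt).2]
            exact ih
          · have := congrFun he1 i
            simp only [if_neg h1, Option.some.injEq] at this
            exact this
      subst hd
      rfl
    · let D : ℕ → Prop := fun i => ∃ h : i < m, c.2 ⟨i, h⟩ ≠ none
      let w : Equiv.Perm (Fin (m + 1)) := Equiv.ofBijective
        (fun a => (⟨runMap m D a, Nat.lt_succ_of_le (runMap_le m D (Nat.lt_succ_iff.mp a.2))⟩ : Fin (m + 1)))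
        (Finite.injective_iff_bijective.mp fun a a' haa => Fin.ext (by
          have h1 := (runMap_mirror m D (a := (a : ℕ)) (Nat.lt_succ_iff.mp a.2)).1
          have h2 := (runMap_mirror m D (a := (a' : ℕ)) (Nat.lt_succ_iff.mp a'.2)).1
          have e := congrArg Fin.val haa
          simp only at e
          rw [e] at h1
          have := a.2
          have := a'.2
          omega))
      have hw : ∀ a, (w a : ℕ) = runMap m D a := fun a => rfl
      let d : Fin (m + 1) → Fˣ := fun a =>
        Fin.induction (motive := fun _ => Fˣ) c.1 (fun i prev => (c.2 i).getD prev) a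
      have hstep : ∀ i j : Fin (m + 1), (i : ℕ) + 1 = j → w i < w j → (w j : ℕ) = w i + 1 ∧ ¬ D i := by
        intro i j hij hlt
        have hi : (i : ℕ) < m := by have := j.2; omega
        have hnd : ¬ D i := fun hD => by
          have h1 := runMap_succ_of_D m D hD hi
          rw [Fin.lt_def, hw, hw, ← hij] at hlt
          omega
        exact ⟨by rw [hw, hw, ← hij]; exact runMap_succ_of_not m D hnd hi, hnd⟩
      have hmir : ∀ a, w.symm a = (w a.rev).rev := fun a => by
        rw [Equiv.symm_apply_eq]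
        refine Fin.ext ?_
        have h1 := (runMap_mirror m D (a := (a.rev : ℕ)) (Nat.lt_succ_iff.mp a.rev.2)).1
        have e : ((w a.rev).rev : ℕ) = m - runMap m D a.rev := by
          rw [Fin.val_rev, hw]; omega
        rw [hw, e, h1, Fin.val_rev]
        have := a.2
        omega
      have hrel : Rel w d := by
        refine ⟨fun i j hij hlt => ⟨(hstep i j hij hlt).1, ?_⟩, fun a b hab hlt => ?_⟩
        · have hi : (i : ℕ) < m := by have := j.2; omega
          have hnone : c.2 ⟨i, hi⟩ = none := by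
            by_contra hne
            exact (hstep i j hij hlt).2 ⟨hi, hne⟩
          obtain rfl : j = (⟨i, hi⟩ : Fin m).succ := Fin.ext hij.symm
          show Fin.induction (motive := fun _ => Fˣ) c.1 _ (⟨i, hi⟩ : Fin m).succ = _
          rw [Fin.induction_succ, hnone]
          rfl
        · rw [hmir, hmir] at hlt ⊢
          rw [Fin.rev_lt_rev] at hlt
          have h1 := (hstep b.rev a.rev (by simp only [Fin.val_rev]; have := b.2; omega) hlt).1
          simp only [Fin.val_rev]
          have := (w a.rev).2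
          omega
      refine ⟨⟨(w, d), hrel⟩, Prod.ext rfl (funext fun i => ?_)⟩
      simp only [enc]
      have hw1 : (w i.succ : ℕ) = runMap m D ((i : ℕ) + 1) := hw i.succ
      have hw0 : (w i.castSucc : ℕ) = runMap m D (i : ℕ) := hw i.castSucc
      rcases hc : c.2 i with _ | x
      · rw [if_pos]
        rw [hw1, hw0]
        exact runMap_succ_of_not m D (fun ⟨_, hne⟩ => hne hc) i.2
      · rw [if_neg]
        · refine congrArg some ?_
          show Fin.induction (motive := fun _ => Fˣ) c.1 _ i.succ = _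
          rw [Fin.induction_succ, hc]
          rfl
        · rw [hw1, hw0]
          have := runMap_succ_of_D m D (a := (i : ℕ)) ⟨i.2, by rw [hc]; simp⟩ i.2
          omega
  rw [Nat.card_congr (Equiv.ofBijective enc hbij), Nat.card_eq_fintype_card, Fintype.card_prod, Fintype.card_fun,
    Fintype.card_option, Fintype.card_units, Fintype.card_fin, Nat.sub_add_cancel Fintype.card_pos]

end Succ

end CfsgLib.GLCusp
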