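import Cfsg.Agent.Lib.GLCusp.Blocks

/-!
The Whittaker functional and the degree of a cuspidal character.
-/

set_option autoImplicit false
set_option linter.unusedSectionVars false

namespace CfsgLib.GLCusp

open Matrix Finset Cfsg CfsgLib.Characters
open scoped ComplexConjugate

variable {F : Type*} [Field F] [Fintype F] [DecidableEq F] {n : ℕ}

theorem exists_ne_one : ∃ ψ : AddChar F ℂ, ψ ≠ 1 := by
  obtain ⟨ψ, hψ⟩ := (AddChar.exists_apply_ne_zero (a := (1 : F))).mpr one_ne_zero
  exact ⟨ψ, fun h => hψ (by rw [h]; rfl)⟩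

theorem exists_psi_ne {ψ : AddChar F ℂ} (hψ : ψ ≠ 1) {c : F} (hc : c ≠ 0) : ∃ t, ψ (c * t) ≠ 1 := by
  obtain ⟨x, hx⟩ := AddChar.ne_one_iff.mp hψ
  exact ⟨c⁻¹ * x, by rwa [← mul_assoc, mul_inv_cancel₀ hc, one_mul]⟩

theorem sum_psi_dot {ψ : AddChar F ℂ} (hψ : ψ ≠ 1) {κ : Type*} [Fintype κ] [DecidableEq κ] (t : κ → F) :
    ∑ v : κ → F, ψ (v ⬝ᵥ t) = if t = 0 then (Fintype.card F : ℂ) ^ Fintype.card κ else 0 := by
  classical
  split_ifs with h
  · subst h
    simp
  · obtain ⟨i, hi⟩ := Function.ne_iff.mp h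
    obtain ⟨x, hx⟩ := exists_psi_ne hψ hi
    refine eq_zero_of_eq_mul hx ?_
    rw [Finset.mul_sum]
    refine (Fintype.sum_equiv (Equiv.addRight (Pi.single i x)) _ _ fun v => ?_).symm
    simp only [Equiv.coe_addRight, add_dotProduct, single_dotProduct]
    rw [AddChar.map_add_eq_mul, mul_comm x, mul_comm]

/-- The pattern of upper unitriangular matrices. -/
def ltPat (n : ℕ) : Pat (Fin n) where
  r i j := i < j
  trans := lt_trans
  irrefl := lt_irrefl

/-- The upper unitriangular group. -/
abbrev uni (n : ℕ) (F : Type*) [Field F] [Fintype F] [DecidableEq F] : Subgroup (GL (Fin n) F) :=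
  patGroup (ltPat n)

/-- The sum of the entries next to the diagonal. -/
def supSum (M : Matrix (Fin n) (Fin n) F) : F :=
  ∑ i : Fin n, ∑ j : Fin n, if (i : ℕ) + 1 = j then M i j else 0

theorem supSum_mul {u v : GL (Fin n) F} (hu : u ∈ uni n F) (hv : v ∈ uni n F) :
    supSum (u * v).val = supSum u.val + supSum v.val := by
  simp only [supSum, ← Finset.sum_add_distrib]
  refine Finset.sum_congr rfl fun i _ => Finset.sum_congr rfl fun j _ => ?_
  split_ifs with h
  · have hij : i ≠ j := fun e => by rw [e] at h; omega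
    rw [Units.val_mul, Matrix.mul_apply, ← Finset.sum_subset (Finset.subset_univ {i, j}),
      Finset.sum_pair hij, hu i i (lt_irrefl _), hv j j (lt_irrefl _), Matrix.one_apply_eq, Matrix.one_apply_eq,
      one_mul, mul_one, add_comm]
    intro l _ hl
    simp only [Finset.mem_insert, Finset.mem_singleton, not_or] at hl
    by_cases h1 : i < l
    · rw [hv l j (fun h2 => by
        have h1' : (i : ℕ) < l := h1
        have h2' : (l : ℕ) < j := h2
        omega), Matrix.one_apply_ne hl.2, mul_zero]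
    · rw [hu i l h1, Matrix.one_apply_ne (Ne.symm hl.1), zero_mul]
  · simp

theorem supSum_one : supSum (1 : Matrix (Fin n) (Fin n) F) = 0 := by
  simp only [supSum]
  refine Finset.sum_eq_zero fun i _ => Finset.sum_eq_zero fun j _ => ?_
  split_ifs with h
  · exact Matrix.one_apply_ne fun e => by rw [e] at h; omega
  · rfl

/-- The Whittaker character. -/
def theta (ψ : AddChar F ℂ) (g : GL (Fin n) F) : ℂ := ψ (supSum g.val)

/-- The Whittaker character as a homomorphism. -/
def thetaHom (ψ : AddChar F ℂ) : uni n F →* ℂ where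
  toFun u := theta ψ (u : GL (Fin n) F)
  map_one' := by simp [theta, supSum_one]
  map_mul' u v := by
    simp only [theta, Subgroup.coe_mul]
    rw [supSum_mul u.2 v.2, AddChar.map_add_eq_mul]

theorem theta_mul (ψ : AddChar F ℂ) {u v : GL (Fin n) F} (hu : u ∈ uni n F) (hv : v ∈ uni n F) :
    theta ψ (u * v) = theta ψ u * theta ψ v := (thetaHom ψ).map_mul ⟨u, hu⟩ ⟨v, hv⟩

theorem theta_ne_zero (ψ : AddChar F ℂ) (g : GL (Fin n) F) : theta ψ g ≠ 0 :=
  (AddChar.val_isUnit ψ _).ne_zero

theorem theta_inv (ψ : AddChar F ℂ) {u : GL (Fin n) F} (hu : u ∈ uni n F) :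
    theta ψ u⁻¹ = conj (theta ψ u) := by
  have h1 := theta_mul ψ (inv_mem hu) hu
  rw [inv_mul_cancel] at h1
  have h2 : theta ψ (1 : GL (Fin n) F) = 1 := (thetaHom ψ).map_one
  rw [h2] at h1
  have h3 : conj (theta ψ u) * theta ψ u = 1 := by
    rw [theta, ← AddChar.map_neg_eq_conj, ← AddChar.map_add_eq_mul, neg_add_cancel, AddChar.map_zero_eq_one]
  exact mul_right_cancel₀ (theta_ne_zero ψ u) (h1.symm.trans h3.symm)

/-- The multiplicity of the Whittaker character. -/
noncomputable def whit (ψ : AddChar F ℂ) (f : GL (Fin n) F → ℂ) : ℂ :=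
  (Nat.card (uni n F) : ℂ)⁻¹ * ∑ u : uni n F, f u * conj (theta ψ (u : GL (Fin n) F))

theorem whit_nat (ψ : AddChar F ℂ) {χ : GL (Fin n) F → ℂ} (hχ : IsCharacter _ χ) :
    ∃ m : ℕ, whit ψ χ = m :=
  classInner_char_nat (CfsgLib.CharCorr.isCharacter_comp hχ (uni n F).subtype)
    (CfsgLib.Induction.isCharacter_monoidHom (thetaHom ψ))

/-! ### The degree -/

/-- The pattern of the last columns. -/
def colPat (n j : ℕ) : Pat (Fin n) where
  r a b := a < b ∧ j ≤ (b : ℕ)
  trans h h' := ⟨lt_trans h.1 h'.1, h'.2⟩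
  irrefl a h := lt_irrefl a h.1

/-- The projection onto the last columns. -/
noncomputable def colWhit (ψ : AddChar F ℂ) (χ : GL (Fin n) F → ℂ) (j : ℕ) : ℂ :=
  (Nat.card (patGroup (colPat n j) : Subgroup (GL (Fin n) F)) : ℂ)⁻¹ *
    ∑ u : (patGroup (colPat n j) : Subgroup (GL (Fin n) F)), χ u * conj (theta ψ (u : GL (Fin n) F))

theorem colWhit_one (ψ : AddChar F ℂ) (χ : GL (Fin n) F → ℂ) : colWhit ψ χ 1 = whit ψ χ := by
  have h : (patGroup (colPat n 1) : Subgroup (GL (Fin n) F)) = uni n F := by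
    refine le_antisymm (patGroup_mono fun a b hab => hab.1) (patGroup_mono fun a b hab => ⟨hab, ?_⟩)
    have : (a : ℕ) < b := hab
    omega
  rw [colWhit, whit, Nat.card_congr (MulEquiv.subgroupCongr h).toEquiv]
  congr 1
  exact Fintype.sum_equiv (MulEquiv.subgroupCongr h).toEquiv _ _ fun u => rfl

theorem colWhit_top (ψ : AddChar F ℂ) (χ : GL (Fin n) F → ℂ) : colWhit ψ χ n = χ 1 := by
  have h : ∀ u : (patGroup (colPat n n) : Subgroup (GL (Fin n) F)), (u : GL (Fin n) F) = 1 := fun u =>
    Units.ext (Matrix.ext fun a b => u.2 a b fun hr => absurd hr.2 (not_le.mpr b.2))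
  have : Unique (patGroup (colPat n n) : Subgroup (GL (Fin n) F)) :=
    { default := 1, uniq := fun u => Subtype.ext (h u) }
  rw [colWhit, Nat.card_unique, Nat.cast_one, inv_one, one_mul, Fintype.sum_unique, h]
  rw [theta, Units.val_one, supSum_one, AddChar.map_zero_eq_one, map_one, mul_one]

section Step

variable (jj : Fin n)

/-- The entries next to the diagonal beyond a column. -/
def supAbove (M : Matrix (Fin n) (Fin n) F) : F :=
  ∑ i : Fin n, ∑ j : Fin n, if (i : ℕ) + 1 = j ∧ jj < j then M i j else 0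

/-- The twisted sum over the last columns. -/
noncomputable def colTwist (ψ : AddChar F ℂ) (χ : GL (Fin n) F → ℂ) (v : {a // a < jj} → F) : ℂ :=
  (Nat.card (patGroup (colPat n jj) : Subgroup (GL (Fin n) F)) : ℂ)⁻¹ *
    ∑ u : (patGroup (colPat n jj) : Subgroup (GL (Fin n) F)),
      χ u * conj (ψ ((v ⬝ᵥ fun a => (u : GL (Fin n) F).val a jj) + supAbove jj (u : GL (Fin n) F).val))

theorem card_colPat :
    Nat.card (patGroup (colPat n jj) : Subgroup (GL (Fin n) F)) =
      Fintype.card F ^ (jj : ℕ) * Nat.card (patGroup (colPat n (jj + 1)) : Subgroup (GL (Fin n) F)) := by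
  classical
  rw [card_patGroup, card_patGroup, ← pow_add]
  congr 1
  have e : {p : Fin n × Fin n // (colPat n jj).r p.1 p.2} ≃
      {a // a < jj} ⊕ {p : Fin n × Fin n // (colPat n (jj + 1)).r p.1 p.2} :=
    { toFun := fun p => if h : p.1.2 = jj then Sum.inl ⟨p.1.1, by have := p.2.1; rwa [h] at this⟩
        else Sum.inr ⟨p.1, p.2.1, by
          have h1 : (p.1.2 : ℕ) ≠ jj := fun e => h (Fin.ext e)
          have h2 : (jj : ℕ) ≤ p.1.2 := p.2.2
          omega⟩
      invFun := Sum.elim (fun a => ⟨(a.1, jj), a.2, le_rfl⟩) fun p => ⟨p.1, p.2.1, by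
        have h2 : (jj : ℕ) + 1 ≤ p.1.2 := p.2.2
        omega⟩
      left_inv := fun p => by
        by_cases h : p.1.2 = jj
        · simp only [dif_pos h, Sum.elim_inl]
          exact Subtype.ext (Prod.ext rfl h.symm)
        · simp [h]
      right_inv := fun x => by
        rcases x with a | p
        · simp
        · have h : p.1.2 ≠ jj := fun e => by
            have h2 : (jj : ℕ) + 1 ≤ p.1.2 := p.2.2
            rw [e] at h2; omega
          simp [h] }
  rw [Nat.card_congr e, Nat.card_sum, Nat.card_eq_fintype_card (α := {a // a < jj}),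
    Fintype.card_subtype, Finset.filter_gt_eq_Iio, Fin.card_Iio]

theorem colTwist_sum {ψ : AddChar F ℂ} (hψ : ψ ≠ 1) (χ : GL (Fin n) F → ℂ) :
    ∑ v, colTwist jj ψ χ v = colWhit ψ χ (jj + 1) := by
  classical
  simp only [colTwist, colWhit, ← Finset.mul_sum]
  rw [Finset.sum_comm]
  have hsub : ∀ u : GL (Fin n) F, u ∈ patGroup (colPat n (jj + 1)) ↔
      u ∈ patGroup (colPat n jj) ∧ (fun a : {a // a < jj} => u.val a jj) = 0 := by
    intro u
    refine ⟨fun hu => ⟨patGroup_mono (P := colPat n (jj + 1)) (Q := colPat n jj) (fun a b hab => ⟨hab.1, le_trans (Nat.le_succ _) hab.2⟩) hu, funext fun a => ?_⟩,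
      fun hu a b hn => ?_⟩
    · rw [hu a jj fun hr => absurd hr.2 (Nat.not_succ_le_self _), Matrix.one_apply_ne (ne_of_lt a.2)]
      rfl
    · by_cases hb : b = jj
      · subst hb
        by_cases hab : a < b
        · rw [Matrix.one_apply_ne (ne_of_lt hab)]
          exact congrFun hu.2 ⟨a, hab⟩
        · exact hu.1 a b fun hr => hab hr.1
      · refine hu.1 a b fun hr => hn ⟨hr.1, ?_⟩
        have h1 : (b : ℕ) ≠ jj := fun e => hb (Fin.ext e)
        have h2 : (jj : ℕ) ≤ b := hr.2
        omega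
  have hterm : ∀ u : (patGroup (colPat n jj) : Subgroup (GL (Fin n) F)),
      (∑ v : {a // a < jj} → F,
        χ u * conj (ψ ((v ⬝ᵥ fun a => (u : GL (Fin n) F).val a jj) + supAbove jj (u : GL (Fin n) F).val))) =
      (Fintype.card F : ℂ) ^ (jj : ℕ) *
        if (u : GL (Fin n) F) ∈ patGroup (colPat n (jj + 1)) then χ u * conj (theta ψ (u : GL (Fin n) F)) else 0 := by
    intro u
    simp only [AddChar.map_add_eq_mul, map_mul, ← mul_assoc, ← Finset.sum_mul, ← Finset.mul_sum, ← map_sum,
      sum_psi_dot hψ]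
    by_cases hu : (u : GL (Fin n) F) ∈ patGroup (colPat n (jj + 1))
    · rw [if_pos ((hsub _).mp hu).2, if_pos hu, Fintype.card_subtype, Finset.filter_gt_eq_Iio, Fin.card_Iio]
      have : supAbove jj (u : GL (Fin n) F).val = supSum (u : GL (Fin n) F).val := by
        refine Finset.sum_congr rfl fun i _ => Finset.sum_congr rfl fun j _ => ?_
        by_cases hij : (i : ℕ) + 1 = j
        · by_cases hj : jj < j
          · rw [if_pos ⟨hij, hj⟩, if_pos hij]
          · rw [if_neg (fun h => hj h.2), if_pos hij, hu i j fun hr => hj (Nat.lt_of_succ_le hr.2),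
              Matrix.one_apply_ne fun e => by rw [e] at hij; omega]
        · rw [if_neg (fun h => hij h.1), if_neg hij]
      rw [theta, this, map_pow, map_natCast]
      ring
    · rw [if_neg fun h => hu ((hsub _).mpr ⟨u.2, h⟩), if_neg hu]
      simp
  rw [Finset.sum_congr rfl fun u _ => hterm u, ← Finset.mul_sum, ← Finset.sum_filter, card_colPat, Nat.cast_mul,
    Nat.cast_pow, mul_inv, ← mul_assoc, mul_comm ((Fintype.card F : ℂ) ^ (jj : ℕ))⁻¹, mul_assoc _ _
      ((Fintype.card F : ℂ) ^ (jj : ℕ)), inv_mul_cancel₀ (pow_ne_zero _ (by simp)), mul_one]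
  congr 1
  refine Finset.sum_bij' (fun u hu => (⟨u, (Finset.mem_filter.mp hu).2⟩ : (patGroup (colPat n (jj + 1)) : Subgroup (GL (Fin n) F))))
    (fun u _ => ⟨u, ((hsub _).mp u.2).1⟩) ?_ ?_ ?_ ?_ ?_
  · exact fun _ _ => Finset.mem_univ _
  · exact fun u _ => Finset.mem_filter.mpr ⟨Finset.mem_univ _, u.2⟩
  · exact fun _ _ => rfl
  · exact fun _ _ => rfl
  · exact fun _ _ => rfl

theorem colTwist_zero {ψ : AddChar F ℂ} {χ : GL (Fin n) F → ℂ} (hχ : IsCusp χ) (hj : 0 < (jj : ℕ)) :
    colTwist jj ψ χ 0 = 0 := by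
  classical
  set S : Finset (Fin n) := Finset.univ.filter (· < jj) with hS
  let C : Pat (Fin n) :=
    { r := fun a b => a < b ∧ jj ≤ a
      trans := fun h h' => ⟨lt_trans h.1 h'.1, h.2⟩
      irrefl := fun a h => lt_irrefl a h.1 }
  have hu : ∀ a b, (colPat n jj).r a b ↔ C.r a b ∨ (splitPat S).r a b := fun a b => by
    simp only [colPat, C, splitPat, hS, Finset.mem_filter, Finset.mem_univ, true_and, Fin.lt_def, Fin.le_def]
    omega
  have hd : ∀ a b, C.r a b → ¬ (splitPat S).r a b := fun a b h h' => by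
    simp only [C, splitPat, hS, Finset.mem_filter, Finset.mem_univ, true_and, Fin.lt_def, Fin.le_def] at h h'
    omega
  rw [colTwist, sum_factor (colPat n jj) C (splitPat S) hu hd
    (fun u => χ u * conj (ψ ((0 ⬝ᵥ fun a : {a // a < jj} => u.val a jj) + supAbove jj u.val)))]
  refine mul_eq_zero_of_right _ (Finset.sum_eq_zero fun c _ => ?_)
  have hconst : ∀ r : (patGroup (splitPat S) : Subgroup (GL (Fin n) F)),
      supAbove jj ((c : GL (Fin n) F) * r).val = supAbove jj (c : GL (Fin n) F).val := by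
    intro r
    refine Finset.sum_congr rfl fun i _ => Finset.sum_congr rfl fun j _ => ?_
    split_ifs with h
    · have hS' : ∀ l, ¬ l < jj → ¬ (splitPat S).r l j := fun l hl hr => hl (by simpa [hS, splitPat] using hr.1)
      rw [Units.val_mul, Matrix.mul_apply, Finset.sum_eq_single j]
      · rw [r.2 j j ((splitPat S).irrefl j), Matrix.one_apply_eq, mul_one]
      · intro l _ hl
        by_cases hl' : l < jj
        · rw [c.2 i l fun hr => by
            have h1 : (i : ℕ) + 1 = j := h.1
            have h2 : (jj : ℕ) < j := h.2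
            have h3 : (i : ℕ) < l := hr.1
            have h4 : (jj : ℕ) ≤ i := hr.2
            have h5 : (l : ℕ) < jj := hl'
            omega]
          rw [Matrix.one_apply_ne, zero_mul]
          rintro rfl
          have h1 : (i : ℕ) + 1 = j := h.1
          have h2 : (jj : ℕ) < j := h.2
          have h5 : (i : ℕ) < jj := hl'
          omega
        · rw [r.2 l j (hS' l hl'), Matrix.one_apply_ne hl, mul_zero]
      · simp
    · rfl
  simp only [hconst, zero_dotProduct, ← Finset.sum_mul]
  refine mul_eq_zero_of_left (hχ S ⟨⟨0, by omega⟩, ?_⟩ (fun h => ?_) _) _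
  · rw [hS, Finset.mem_filter]
    exact ⟨Finset.mem_univ _, hj⟩
  · have := Finset.eq_univ_iff_forall.mp h jj
    simp [hS] at this

theorem colTwist_vecMul {ψ : AddChar F ℂ} {χ : GL (Fin n) F → ℂ} (hχ : IsClassFunction _ χ)
    (g : GL {a // a < jj} F) (v : {a // a < jj} → F) :
    colTwist jj ψ χ (v ᵥ* g.val) = colTwist jj ψ χ v := by
  classical
  let lab : Fin n → Fin 2 := fun a => if a < jj then 0 else 1
  let e : {a // a < jj} ≃ {a // lab a = 0} := Equiv.subtypeEquivRight fun a => by
    by_cases h : a < jj <;> simp [lab, h]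
  set G : GL (Fin n) F := diagHom lab (Pi.mulSingle 0 (reGL e g)) with hG
  have hGlo : ∀ (a b : Fin n) (ha : a < jj) (hb : b < jj), G.val a b = g.val ⟨a, ha⟩ ⟨b, hb⟩ := fun a b ha hb => by
    rw [hG, diagHom_apply, diagMat_of_eq lab _ (show lab a = 0 by simp [lab, ha]) (show lab b = 0 by simp [lab, hb]),
      Pi.mulSingle_eq_same, reGL_apply]
    rfl
  have hGhi : ∀ (a b : Fin n), ¬ (a < jj ∧ b < jj) → G.val a b = (1 : Matrix (Fin n) (Fin n) F) a b := by
    intro a b hab
    rw [hG, diagHom_apply]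
    by_cases hl : lab b = lab a
    · by_cases ha : a < jj
      · refine absurd ⟨ha, ?_⟩ hab
        by_contra hb
        simp [lab, ha, hb] at hl
      · rw [diagMat_of_eq lab _ rfl hl, Pi.mulSingle_eq_of_ne (by simp [lab, ha])]
        simp [Matrix.one_apply, Subtype.ext_iff]
    · rw [diagMat_of_ne lab _ (Ne.symm hl), Matrix.one_apply_ne]
      exact fun h => hl (by rw [h])
  have hN : ∀ u ∈ (patGroup (colPat n jj) : Subgroup (GL (Fin n) F)),
      (G * u * G⁻¹).val = 1 + G.val * (u.val - 1) := by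
    intro u hu
    have h1 : (u.val - 1) * G.val = u.val - 1 := by
      ext a b
      rw [Matrix.mul_apply, Finset.sum_eq_single b]
      · by_cases hb : b < jj
        · rw [Matrix.sub_apply, hu a b fun hr => absurd hr.2 (not_le.mpr hb), sub_self, zero_mul]
        · rw [hGhi b b fun h => hb h.1, Matrix.one_apply_eq, mul_one]
      · intro l _ hl
        by_cases hl' : l < jj
        · rw [Matrix.sub_apply, hu a l fun hr => absurd hr.2 (not_le.mpr hl'), sub_self, zero_mul]
        · rw [hGhi l b fun h => hl' h.1, Matrix.one_apply_ne hl, mul_zero]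
      · simp
    have h2 : (u.val - 1) * (G⁻¹).val = u.val - 1 := by
      conv_lhs => rw [← h1, mul_assoc, Units.mul_inv, mul_one]
    calc (G * u * G⁻¹).val = G.val * (1 + (u.val - 1)) * (G⁻¹).val := by
          rw [add_sub_cancel, Units.val_mul, Units.val_mul]
      _ = _ := by rw [mul_add, add_mul, mul_one, Units.mul_inv, mul_assoc, h2]
  have hcol : ∀ u ∈ (patGroup (colPat n jj) : Subgroup (GL (Fin n) F)), ∀ (a : Fin n) (b : Fin n),
      ¬ a < jj → (G * u * G⁻¹).val a b = u.val a b := by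
    intro u hu a b ha
    rw [hN u hu, Matrix.add_apply, Matrix.mul_apply, Finset.sum_eq_single a]
    · rw [hGhi a a fun h => ha h.1, Matrix.one_apply_eq, one_mul, Matrix.sub_apply, add_sub_cancel]
    · intro l _ hl
      rw [hGhi a l fun h => ha h.1, Matrix.one_apply_ne (Ne.symm hl), zero_mul]
    · simp
  have hmem : ∀ (G' : GL (Fin n) F), (∀ u ∈ (patGroup (colPat n jj) : Subgroup (GL (Fin n) F)), (G' * u * G'⁻¹).val = 1 + G'.val * (u.val - 1)) →
      (∀ (a b : Fin n), ¬ (a < jj ∧ b < jj) → G'.val a b = (1 : Matrix (Fin n) (Fin n) F) a b) →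
      ∀ u ∈ (patGroup (colPat n jj) : Subgroup (GL (Fin n) F)), G' * u * G'⁻¹ ∈ patGroup (colPat n jj) := by
    intro G' hN' hhi u hu a b hn
    rw [hN' u hu, Matrix.add_apply, Matrix.mul_apply, Finset.sum_eq_zero, add_zero]
    intro l _
    by_cases hb : b < jj
    · rw [Matrix.sub_apply, hu l b fun hr => absurd hr.2 (not_le.mpr hb), sub_self, mul_zero]
    · by_cases hal : a < jj
      · exact absurd ⟨lt_of_lt_of_le hal (not_lt.mp hb), not_lt.mp hb⟩ hn
      · by_cases hla : l = a
        · subst hla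
          rw [Matrix.sub_apply, hu l b hn, sub_self, mul_zero]
        · rw [hhi a l fun h => hal h.1, Matrix.one_apply_ne (Ne.symm hla), zero_mul]
  have hGinvhi : ∀ (a b : Fin n), ¬ (a < jj ∧ b < jj) → (G⁻¹).val a b = (1 : Matrix (Fin n) (Fin n) F) a b := by
    have : G⁻¹ = diagHom lab (Pi.mulSingle 0 (reGL e g⁻¹)) := by
      rw [hG, ← map_inv, ← Pi.mulSingle_inv, map_inv]
    intro a b hab
    rw [this, diagHom_apply]
    by_cases hl : lab b = lab a
    · by_cases ha : a < jj
      · refine absurd ⟨ha, ?_⟩ hab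
        by_contra hb
        simp [lab, ha, hb] at hl
      · rw [diagMat_of_eq lab _ rfl hl, Pi.mulSingle_eq_of_ne (by simp [lab, ha])]
        simp [Matrix.one_apply, Subtype.ext_iff]
    · rw [diagMat_of_ne lab _ (Ne.symm hl), Matrix.one_apply_ne]
      exact fun h => hl (by rw [h])
  have hNinv : ∀ u ∈ (patGroup (colPat n jj) : Subgroup (GL (Fin n) F)),
      (G⁻¹ * u * G⁻¹⁻¹).val = 1 + (G⁻¹).val * (u.val - 1) := by
    intro u hu
    have h1 : (u.val - 1) * G.val = u.val - 1 := by
      ext a b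
      rw [Matrix.mul_apply, Finset.sum_eq_single b]
      · by_cases hb : b < jj
        · rw [Matrix.sub_apply, hu a b fun hr => absurd hr.2 (not_le.mpr hb), sub_self, zero_mul]
        · rw [hGhi b b fun h => hb h.1, Matrix.one_apply_eq, mul_one]
      · intro l _ hl
        by_cases hl' : l < jj
        · rw [Matrix.sub_apply, hu a l fun hr => absurd hr.2 (not_le.mpr hl'), sub_self, zero_mul]
        · rw [hGhi l b fun h => hl' h.1, Matrix.one_apply_ne hl, mul_zero]
      · simp
    calc (G⁻¹ * u * G⁻¹⁻¹).val = (G⁻¹).val * (1 + (u.val - 1)) * G.val := by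
          rw [add_sub_cancel, inv_inv, Units.val_mul, Units.val_mul]
      _ = _ := by rw [mul_add, add_mul, mul_one, Units.inv_mul, mul_assoc, h1]
  let Φ : (patGroup (colPat n jj) : Subgroup (GL (Fin n) F)) ≃ (patGroup (colPat n jj) : Subgroup (GL (Fin n) F)) :=
    (MulAut.conj G).toEquiv.subtypeEquiv fun u => ⟨fun hu => hmem G hN hGhi u hu, fun hu => by
      have := hmem G⁻¹ hNinv hGinvhi _ hu
      simpa [mul_assoc] using this⟩
  rw [colTwist, colTwist]
  congr 1
  refine Fintype.sum_equiv Φ _ _ fun u => ?_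
  have hval : ((Φ u : GL (Fin n) F)) = G * u * G⁻¹ := rfl
  rw [hval, hχ]
  congr 2
  congr 1
  congr 1
  · rw [← Matrix.dotProduct_mulVec]
    congr 1
    funext a
    rw [hN u.1 u.2, Matrix.add_apply, Matrix.one_apply_ne (ne_of_lt a.2), zero_add, Matrix.mul_apply,
      Matrix.mulVec, dotProduct,
      ← Finset.sum_subset (Finset.subset_univ (Finset.univ.filter (· < jj))) (fun l _ hl => by
        rw [Finset.mem_filter, not_and] at hl
        rw [hGhi a l fun h => hl (Finset.mem_univ _) h.2,
          Matrix.one_apply_ne (fun e => hl (Finset.mem_univ _) (by rw [← e]; exact a.2)), zero_mul]),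
      Finset.sum_subtype (Finset.univ.filter (· < jj)) (p := fun l => l < jj) (fun l => by simp)]
    refine Finset.sum_congr rfl fun l _ => ?_
    rw [hGlo a l a.2 l.2, Matrix.sub_apply, Matrix.one_apply_ne (ne_of_lt l.2), sub_zero]
  · refine Finset.sum_congr rfl fun i _ => Finset.sum_congr rfl fun j _ => ?_
    split_ifs with h
    · rw [hcol u.1 u.2 i j fun hi => by
        have h1 : (i : ℕ) + 1 = j := h.1
        have h2 : (jj : ℕ) < j := h.2
        have h3 : (i : ℕ) < jj := hi
        omega]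
    · rfl

theorem exists_row {κ : Type*} [Fintype κ] [DecidableEq κ] (c₀ : κ) {v : κ → F} (hv : v ≠ 0) :
    ∃ g : GL κ F, Pi.single c₀ 1 ᵥ* g.val = v := by
  obtain ⟨c, hc⟩ := Function.ne_iff.mp hv
  set M : Matrix κ κ F := (1 : Matrix κ κ F).updateRow c v with hM
  have hinj : Function.Injective M.mulVec := by
    intro w w' h
    have hne : ∀ i, i ≠ c → w i = w' i := fun i hi => by
      have := congrFun h i
      rw [Matrix.mulVec, Matrix.mulVec, hM, Matrix.updateRow_ne hi] at this
      simpa [Matrix.one_apply, dotProduct] using this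
    funext i
    by_cases hi : i = c
    · subst hi
      have := congrFun h i
      rw [Matrix.mulVec, Matrix.mulVec, hM, Matrix.updateRow_self, dotProduct, dotProduct,
        ← Finset.add_sum_erase _ _ (Finset.mem_univ i), ← Finset.add_sum_erase _ _ (Finset.mem_univ i),
        Finset.sum_congr rfl fun l hl => by rw [hne l (Finset.ne_of_mem_erase hl)]] at this
      exact mul_left_cancel₀ hc (add_right_cancel this)
    · exact hne i hi
  refine ⟨pm (Equiv.swap c c₀) * (Matrix.mulVec_injective_iff_isUnit.mp hinj).unit, ?_⟩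
  rw [Matrix.single_one_vecMul]
  funext i
  have h := pm_mul_apply (F := F) (Equiv.swap c c₀) (Matrix.mulVec_injective_iff_isUnit.mp hinj).unit.val c i
  rw [Equiv.swap_apply_left] at h
  rw [Matrix.row_apply, Units.val_mul, h, IsUnit.unit_spec, hM, Matrix.updateRow_self]

theorem colWhit_step {ψ : AddChar F ℂ} (hψ : ψ ≠ 1) {χ : GL (Fin n) F → ℂ} (hcl : IsClassFunction _ χ)
    (hχ : IsCusp χ) (hj : 0 < (jj : ℕ)) :
    colWhit ψ χ (jj + 1) = ((Fintype.card F : ℂ) ^ (jj : ℕ) - 1) * colWhit ψ χ jj := by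
  classical
  set last : {a // a < jj} := ⟨⟨(jj : ℕ) - 1, by omega⟩, Nat.sub_lt hj Nat.one_pos⟩ with hlast
  have hd : colWhit ψ χ jj = colTwist jj ψ χ (Pi.single last 1) := by
    rw [colWhit, colTwist]
    congr 1
    refine Finset.sum_congr rfl fun u _ => ?_
    rw [single_dotProduct, one_mul, theta]
    congr 3
    have : supSum (u : GL (Fin n) F).val =
        (∑ i : Fin n, ∑ j : Fin n, if (i : ℕ) + 1 = j ∧ j = jj then (u : GL (Fin n) F).val i j else 0) + supAbove jj (u : GL (Fin n) F).val := by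
      simp only [supSum, supAbove, ← Finset.sum_add_distrib]
      refine Finset.sum_congr rfl fun i _ => Finset.sum_congr rfl fun j _ => ?_
      by_cases hij : (i : ℕ) + 1 = j
      · rcases lt_trichotomy j jj with h | h | h
        · rw [if_pos hij, if_neg (fun e => (ne_of_lt h) e.2), if_neg (fun e => lt_asymm h e.2), add_zero]
          rw [u.2 i j fun hr => absurd hr.2 (not_le.mpr h), Matrix.one_apply_ne fun e => by rw [e] at hij; omega]
        · rw [if_pos hij, if_pos ⟨hij, h⟩, if_neg (fun e => (ne_of_gt e.2) h), add_zero]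
        · rw [if_pos hij, if_neg (fun e => (ne_of_gt h) e.2), if_pos ⟨hij, h⟩, zero_add]
      · rw [if_neg hij, if_neg (fun e => hij e.1), if_neg (fun e => hij e.1), add_zero]
    rw [this, Finset.sum_eq_single last.1, Finset.sum_eq_single jj]
    · rw [if_pos ⟨by simp [hlast]; omega, rfl⟩]
    · exact fun j _ hj' => if_neg fun e => hj' e.2
    · simp
    · intro i _ hi
      refine Finset.sum_eq_zero fun j _ => if_neg fun e => hi (Fin.ext ?_)
      have h1 : (i : ℕ) + 1 = j := e.1
      rw [e.2] at h1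
      simp [hlast]; omega
    · simp
  rw [← colTwist_sum jj hψ χ, hd, ← Finset.add_sum_erase _ _ (Finset.mem_univ (0 : {a // a < jj} → F)),
    colTwist_zero jj hχ hj, zero_add, Finset.sum_congr rfl (g := fun _ => colTwist jj ψ χ (Pi.single last 1))
      (fun v hv => by
        obtain ⟨g, hg⟩ := exists_row (F := F) last (Finset.ne_of_mem_erase hv)
        rw [← hg, colTwist_vecMul jj hcl g]),
    Finset.sum_const, Finset.card_erase_of_mem (Finset.mem_univ _), Finset.card_univ, Fintype.card_fun,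
    Fintype.card_subtype, Finset.filter_gt_eq_Iio, Fin.card_Iio, nsmul_eq_mul,
    Nat.cast_sub (Nat.one_le_pow _ _ Fintype.card_pos), Nat.cast_pow, Nat.cast_one]

end Step

theorem colWhit_eq {ψ : AddChar F ℂ} (hψ : ψ ≠ 1) {χ : GL (Fin n) F → ℂ} (hcl : IsClassFunction _ χ)
    (hχ : IsCusp χ) : ∀ j, 1 ≤ j → j ≤ n →
      colWhit ψ χ j = whit ψ χ * ∏ i ∈ Finset.Ico 1 j, ((Fintype.card F : ℂ) ^ i - 1) := by
  intro j hj
  induction j, hj using Nat.le_induction with
  | base => intro _; simp [colWhit_one]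
  | succ j hj ih =>
    intro hle
    have h := colWhit_step ⟨j, by omega⟩ hψ hcl hχ hj
    rw [h, ih (by omega), Finset.prod_Ico_succ_top hj]
    ring

theorem degree_of_cusp {ψ : AddChar F ℂ} (hψ : ψ ≠ 1) (hn : 0 < n) {χ : GL (Fin n) F → ℂ}
    (hcl : IsClassFunction _ χ) (hχ : IsCusp χ) :
    χ 1 = whit ψ χ * ∏ i ∈ Finset.Ico 1 n, ((Fintype.card F : ℂ) ^ i - 1) := by
  rw [← colWhit_eq hψ hcl hχ n hn le_rfl, colWhit_top]

end CfsgLib.GLCusp
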